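import Cfsg.Agent.XSExt.Field
import Cfsg.Agent.CharDeep.Ext.Avg
import Cfsg.Agent.CharDeep.Ext.DetChar

/-!
# The extension over a two-group normalising a fixed-point-free automorphism of odd prime order
-/

set_option autoImplicit false

open Cfsg SemidirectProduct
open scoped Pointwise

namespace Cfsg.Agent.XSExt

universe u

variable {E : Type u} [Group E] {z : E} {φ : MulAut E} (h : XS E z) [Finite E]
  (hr : (orderOf φ).Prime) (hr2 : orderOf φ ≠ 2) (hfix : ∀ e, φ e = e → e = 1 ∨ e = z)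
variable {c : ℕ} (hc : c * c * 2 = Nat.card E)

omit [Finite E] in
include hr in
theorem exists_pow_of_mem_normalizer {m : MulAut E}
    (hm : m ∈ Subgroup.normalizer (Subgroup.zpowers φ : Set (MulAut E))) :
    ∃ k : ℕ, k.Coprime (orderOf φ) ∧ m * φ * m⁻¹ = φ ^ k := by
  have hmem : m * φ * m⁻¹ ∈ Subgroup.zpowers φ :=
    (Subgroup.mem_normalizer_iff.mp hm φ).mp (Subgroup.mem_zpowers φ)
  have hfo : IsOfFinOrder φ := orderOf_pos_iff.mp hr.pos
  obtain ⟨k, hk⟩ := (Submonoid.mem_powers_iff _ _).mp (hfo.mem_powers_iff_mem_zpowers.mpr hmem)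
  refine ⟨k, ?_, hk.symm⟩
  refine ((Nat.Prime.coprime_iff_not_dvd hr).mpr fun hd => ?_).symm
  have h1 : m * φ * m⁻¹ = 1 := by rw [← hk]; exact orderOf_dvd_iff_pow_eq_one.mp hd
  have h2 : φ = 1 := by simpa using h1
  exact hr.one_lt.ne' (by rw [h2, orderOf_one])

section Fixed

variable {Q : Subgroup (MulAut E)} (hQ : IsPGroup 2 Q) (hQφ : ∀ q ∈ Q, q * φ = φ * q)
include h hr hr2 hfix hQ hQφ hc

/-- Uniqueness of the canonical character. -/
theorem nice_unique {ψ ψ' : Big φ Q → ℂ} (hψ : Nice φ z Q c ψ) (hψ' : Nice φ z Q c ψ') :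
    ψ' = ψ := by
  classical
  have := Fintype.ofFinite (Big φ Q)
  let N : Subgroup (Big φ Q) := (inl : E →* Big φ Q).range
  have hNn : N.Normal := by
    show (inl : E →* Big φ Q).range.Normal
    rw [range_inl_eq_ker_rightHom]; infer_instance
  have := Fintype.ofFinite N
  have hirr : IsIrrCharacter (Big φ Q) ψ := h.isIrr_of_good inl inl_injective hψ.good hc
  have hirr' : IsIrrCharacter (Big φ Q) ψ' := h.isIrr_of_good inl inl_injective hψ'.good hc
  have hres : ∀ f : Big φ Q → ℂ, Good f (inl z) c → IsIrrCharacter N (fun n : N => f n) :=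
    fun f hf => h.isIrr_of_good (inl : E →* Big φ Q).rangeRestrict
      (fun a b e => inl_injective (congrArg Subtype.val e))
      ⟨CharCore.isCharacter_restrict hf.1 N, hf.2.1, hf.2.2⟩ hc
  have hagree : (fun n : N => ψ' n) = fun n : N => ψ n := by
    have h1 : ∀ f : Big φ Q → ℂ, Good f (inl z) c → Good (fun e : E => f (inl e)) z c := fun f hf =>
      ⟨CharCore.isCharacter_comp hf.1 inl, (congrArg f (map_one inl)).trans hf.2.1, hf.2.2⟩
    funext n
    obtain ⟨e, he⟩ := n.2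
    show ψ' n = ψ n
    rw [← he]
    exact congrFun (h.good_eq (h1 _ hψ'.good) (h1 _ hψ.good)) e
  obtain ⟨β, hβ, hβN, hmul, -⟩ := CharDeep.Ext.exists_gallagher (χ := ψ) (N := N) hirr
    (hres _ hψ.good) hirr' (by
      rw [hagree]
      have := hres _ hψ.good
      rw [(CharCore.isIrrCharacter_iff.mp this).2]
      exact one_ne_zero)
  have hc0 : (c : ℂ) ≠ 0 := by
    have := Nat.card_pos (α := E)
    exact Nat.cast_ne_zero.mpr fun e => by subst e; rw [zero_mul, zero_mul] at hc; omega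
  have hβ1 : β 1 = 1 := by
    have := congrFun hmul 1
    rw [Pi.mul_apply, hψ.good.2.1, hψ'.good.2.1] at this
    exact mul_right_cancel₀ hc0 (this.symm.trans (one_mul _).symm)
  obtain ⟨l, hl⟩ :=
    CharCore.IsCharacter.exists_hom_of_degree_one (CharCore.IsIrrCharacter.isCharacter hβ) hβ1
  have hψl : ψ' = fun g => (l g : ℂ) * ψ g := by rw [hmul, hl]; rfl
  have hlinl : ∀ e : E, l (inl e) = 1 := fun e => by
    refine Units.ext ?_
    have := hβN ⟨inl e, e, rfl⟩ 1
    rw [mul_one] at this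
    rw [hl] at this
    simpa using this
  have hls : l (sgen φ Q) = 1 := by
    have h1 := hψ'.det
    rw [hψl, CharDeep.Ext.detHom_hom_mul l hψ.good.1 hψ.good.2.1, MonoidHom.mul_apply, hψ.det,
      mul_one, MonoidHom.pow_apply] at h1
    have h2 : l (sgen φ Q) ^ orderOf φ = 1 := by
      have hs : sgen φ Q ^ orderOf φ = 1 := by
        rw [sgen, ← map_pow, ← map_one (inr : ↥(MS φ Q) →* Big φ Q)]
        congr 1
        exact Subtype.ext (by simp [pow_orderOf_eq_one])
      rw [← map_pow, hs, map_one]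
    obtain ⟨k, hk⟩ := IsPGroup.iff_card.mp h.isPGroup
    have hcc : c.Coprime (orderOf φ) :=
      ((((Nat.coprime_primes Nat.prime_two hr).mpr hr2.symm).pow_left k).coprime_dvd_left
        (by rw [← hk, ← hc]; exact dvd_mul_of_dvd_left (dvd_mul_right c c) 2))
    exact orderOf_eq_one_iff.mp (Nat.eq_one_of_dvd_coprimes hcc (orderOf_dvd_of_pow_eq_one h1)
      (orderOf_dvd_of_pow_eq_one h2))
  have hlq : ∀ (q : MulAut E) (hq : q ∈ Q), l (qel φ Q q hq) = 1 := by
    intro q hq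
    have h1 := hψ'.val q hq
    rw [hψl] at h1
    simp only [map_mul, hls, mul_one, hψ.val q hq, Units.val_one, one_mul] at h1
    refine Units.ext (mul_right_cancel₀ (apply_sgen_ne_zero h hr hr2 hfix hQ hQφ hc hψ.good hψ.det) ?_)
    rw [h1, Units.val_one, one_mul]
  rw [hψl]
  funext g
  suffices l g = 1 by rw [this, Units.val_one, one_mul]
  obtain ⟨b, i, hb, rfl⟩ := decomp hQφ g
  rw [map_mul, map_zpow, hls, one_zpow, mul_one, ← inl_left_mul_inr_right b, map_mul, hlinl,
    one_mul]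
  exact hlq _ hb

/-- The canonical character is invariant under the normaliser. -/
theorem nice_invariant {ψ : Big φ Q → ℂ} (hψ : Nice φ z Q c ψ) (m : MulAut E)
    (hmφ : m ∈ Subgroup.normalizer (Subgroup.zpowers φ : Set (MulAut E)))
    (hmQ : m ∈ Subgroup.normalizer (Q : Set (MulAut E))) (x x' : Big φ Q)
    (hl : x'.left = m x.left) (hR : (x'.right : MulAut E) = m * x.right * m⁻¹) : ψ x' = ψ x := by
  obtain ⟨k, hk, hmk⟩ := exists_pow_of_mem_normalizer hr hmφ
  have hMS : ∀ y ∈ MS φ Q, m * y * m⁻¹ ∈ MS φ Q := by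
    intro y hy
    obtain ⟨i, q, hq, rfl⟩ := mem_MS hQφ hy
    rw [← MulAut.conj_apply, map_mul, map_zpow, MulAut.conj_apply, MulAut.conj_apply, hmk]
    exact (MS φ Q).mul_mem (zpow_mem (pow_mem (Subgroup.mem_sup_left (Subgroup.mem_zpowers φ)) _) _)
      (Subgroup.mem_sup_right ((Subgroup.mem_normalizer_iff.mp hmQ q).mp hq))
  let σ : Big φ Q →* Big φ Q := SemidirectProduct.map m.toMonoidHom
    (((MulAut.conj m).toMonoidHom.comp (MS φ Q).subtype).codRestrict (MS φ Q) fun y => hMS y y.2)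
    fun y => by
      ext e
      simp
  have hσs : σ (sgen φ Q) = sgen φ Q ^ k := by
    rw [sgen, ← map_pow]
    refine SemidirectProduct.ext (by simp [σ]) (Subtype.ext ?_)
    simp [σ, hmk]
  obtain ⟨C, β, ε, hε, hC, hβ, hpow⟩ := value h hr hr2 hfix hQ hQφ hc hψ.good hψ.det
  have hN : Nice φ z Q c (fun y => ψ (σ y)) := by
    refine ⟨⟨CharCore.isCharacter_comp hψ.good.1 σ, ?_, ?_⟩, ?_, fun q hq => ?_⟩
    · exact (congrArg ψ (map_one σ)).trans hψ.good.2.1
    · show ψ (σ (inl z)) = _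
      rw [map_inl]
      show ψ (inl (m z)) = _
      rw [h.aut_z]
      exact hψ.good.2.2
    · rw [CharDeep.Ext.detHom_comp hψ.good.1 σ, MonoidHom.comp_apply, hσs, map_pow, hψ.det,
        one_pow]
    · have hq' : m * q * m⁻¹ ∈ Q := (Subgroup.mem_normalizer_iff.mp hmQ q).mp hq
      have hσq : σ (qel φ Q q hq) = qel φ Q _ hq' :=
        SemidirectProduct.ext (by simp [σ, qel]) (Subtype.ext (by simp [σ, qel]))
      have h1 : (1 : Big φ Q) ∈ C := C.one_mem
      have h2 : qel φ Q _ hq' ∈ C := (hC _).mpr ⟨hq', Or.inl rfl⟩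
      show ψ (σ (qel φ Q q hq * sgen φ Q)) = ψ (σ (sgen φ Q))
      rw [map_mul, hσs, hσq, hpow ⟨_, h2⟩ k hk, hψ.val]
      have := hpow ⟨_, h1⟩ k hk
      simpa using this.symm
  have hx : x' = σ x := SemidirectProduct.ext (by simpa [σ] using hl) (Subtype.ext (by simpa [σ] using hR))
  rw [hx]
  exact congrFun (nice_unique h hr hr2 hfix hc hQ hQφ hψ hN) x

/-- Extension of the canonical character across a cyclic step. -/
theorem extend_nice {Q' : Subgroup (MulAut E)} (hQQ : Q ≤ Q')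
    (hnorm : ∀ m ∈ MS φ Q', m ∈ Subgroup.normalizer (Subgroup.zpowers φ : Set (MulAut E)) ∧
      m ∈ Subgroup.normalizer (Q : Set (MulAut E)))
    {A : Type*} [Group A] (g : ↥(MS φ Q') →* A) (hA : IsCyclic g.range)
    (hker : ∀ m : ↥(MS φ Q'), g m = 1 ↔ (m : MulAut E) ∈ MS φ Q)
    {ψ : Big φ Q → ℂ} (hψ : Nice φ z Q c ψ) :
    ∃ F : Big φ Q' → ℂ, Good F (inl z) c ∧ CharDeep.Ext.detHom F (sgen φ Q') = 1 ∧
      ∀ (q : MulAut E) (hq : q ∈ Q),
        F (qel φ Q' q (hQQ hq) * sgen φ Q') = F (sgen φ Q') := by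
  classical
  have hle : MS φ Q ≤ MS φ Q' := sup_le_sup_left hQQ _
  let i : Big φ Q →* Big φ Q' :=
    SemidirectProduct.map (MonoidHom.id E) (Subgroup.inclusion hle) fun _ => rfl
  have hi : Function.Injective i := fun a b e =>
    SemidirectProduct.ext (congrArg SemidirectProduct.left e :)
      (Subgroup.inclusion_injective hle (congrArg SemidirectProduct.right e :))
  have hil : ∀ x : Big φ Q, (i x).left = x.left := fun _ => rfl
  have hir : ∀ x : Big φ Q, ((i x).right : MulAut E) = x.right := fun _ => rfl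
  have hinl : ∀ e : E, i (inl e) = inl e := fun e => SemidirectProduct.ext rfl rfl
  let gg : Big φ Q' →* A := g.comp rightHom
  have hrange : i.range = gg.ker := by
    ext y
    constructor
    · rintro ⟨x, rfl⟩
      exact (hker _).mpr x.right.2
    · intro hy
      exact ⟨⟨y.left, ⟨_, (hker _).mp hy⟩⟩, SemidirectProduct.ext rfl rfl⟩
  have hn : i.range.Normal := by rw [hrange]; infer_instance
  have hcyc : IsCyclic (Big φ Q' ⧸ i.range) := by
    have h1 : IsCyclic gg.range := by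
      have : gg.range ≤ g.range := by
        rintro _ ⟨y, rfl⟩
        exact ⟨y.right, rfl⟩
      exact isCyclic_of_injective (Subgroup.inclusion this) (Subgroup.inclusion_injective this)
    exact (((QuotientGroup.quotientMulEquivOfEq hrange).trans
      (QuotientGroup.quotientKerEquivRange gg))).isCyclic.mpr h1
  have hirr : IsIrrCharacter (Big φ Q) ψ := h.isIrr_of_good inl inl_injective hψ.good hc
  obtain ⟨F, hF, hFi⟩ := extend_step i hi hcyc hirr fun y x x' e => by
    obtain ⟨hmφ, hmQ⟩ := hnorm _ y.right.2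
    let w : Big φ Q := (inl y.left)⁻¹ * x' * inl y.left
    have hcl : ψ x' = ψ w := by
      rw [← CharCore.IsCharacter.isClassFunction hψ.good.1 x' (inl y.left)⁻¹, inv_inv]
    rw [hcl]
    have hiw : i w = inr y.right * i x * (inr y.right)⁻¹ := by
      have hy : i (inl y.left) = inl y.left := hinl _
      rw [map_mul, map_mul, map_inv, e, hy]
      conv_lhs => rw [← inl_left_mul_inr_right y]
      simp only [mul_inv_rev, mul_assoc, inv_mul_cancel_left, left_inl, mul_left, left_inr, map_one,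
        mul_one, right_inl]
      group
    refine nice_invariant h hr hr2 hfix hc hQ hQφ hψ _ hmφ hmQ x w ?_ ?_
    · have := congrArg SemidirectProduct.left hiw
      simpa [hil] using this
    · have := congrArg (fun t : Big φ Q' => (t.right : MulAut E)) hiw
      simpa [hir] using this
  have hFc := CharCore.IsIrrCharacter.isCharacter hF
  refine ⟨F, ⟨hFc, ?_, ?_⟩, ?_, fun q hq => ?_⟩
  · rw [← map_one i, hFi]; exact hψ.good.2.1
  · rw [show (inl z : Big φ Q') = i (inl z) from (hinl z).symm, hFi]; exact hψ.good.2.2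
  · have h1 : CharDeep.Ext.detHom (fun x => F (i x)) = CharDeep.Ext.detHom ψ := by
      rw [show (fun x => F (i x)) = ψ from funext hFi]
    rw [show sgen φ Q' = i (sgen φ Q) from rfl, ← MonoidHom.comp_apply,
      ← CharDeep.Ext.detHom_comp hFc i, h1]
    exact hψ.det
  · rw [show qel φ Q' q (hQQ hq) = i (qel φ Q q hq) from rfl,
      show sgen φ Q' = i (sgen φ Q) from rfl, ← map_mul, hFi, hFi, hψ.val]

end Fixed

section Existence

include h hr hr2 hfix hc

theorem exists_nice_bot : ∃ ψ : Big φ (⊥ : Subgroup (MulAut E)) → ℂ, Nice φ z ⊥ c ψ := by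
  classical
  have hQ : IsPGroup 2 (⊥ : Subgroup (MulAut E)) := IsPGroup.of_bot
  have hQφ : ∀ q ∈ (⊥ : Subgroup (MulAut E)), q * φ = φ * q := fun q hq => by
    rw [Subgroup.mem_bot.mp hq, one_mul, mul_one]
  have := Fintype.ofFinite (Big φ (⊥ : Subgroup (MulAut E)))
  have hGn := base_normal (φ := φ) hQφ
  have hcop := coprime_card h hr hr2 hQ hQφ
  have htop := base_sup hQφ
  set G := base φ (⊥ : Subgroup (MulAut E))
  have := Fintype.ofFinite G
  obtain ⟨θ, c', hθ, hθg, hc'⟩ := h.exists_good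
  obtain rfl : c' = c :=
    Nat.mul_self_inj.mp (mul_right_cancel₀ two_ne_zero (hc'.trans hc.symm))
  have htriv : ∀ g : G, (g : Big φ ⊥).right = 1 := fun g => Subtype.ext (Subgroup.mem_bot.mp g.2)
  let pr : G →* E :=
    { toFun := fun g => (g : Big φ ⊥).left
      map_one' := rfl
      map_mul' := fun a b => by simp [htriv a] }
  have hpr : Function.Surjective pr := fun e =>
    ⟨⟨inl e, by simp [G, mem_base]⟩, rfl⟩
  let χ : IrrCharacter G := ⟨_, CharCore.isIrrCharacter_comp_surjective hθ pr hpr⟩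
  have hinv : ∀ s ∈ Subgroup.zpowers (sgen φ (⊥ : Subgroup (MulAut E))), ∀ g g' : G,
      (g' : Big φ ⊥) = s * g * s⁻¹ → (χ : G → ℂ) g' = (χ : G → ℂ) g := by
    intro s hs g g' e
    obtain ⟨i, rfl⟩ := Subgroup.mem_zpowers_iff.mp hs
    show θ (g' : Big φ ⊥).left = θ (g : Big φ ⊥).left
    have hl : (g' : Big φ ⊥).left = (φ ^ i) (g : Big φ ⊥).left := by
      rw [e, sgen, ← map_zpow (SemidirectProduct.inr (φ := (MS φ (⊥ : Subgroup (MulAut E))).subtype))]
      simp [htriv g, -map_zpow]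
    rw [hl]
    have hg2 : Good (fun e : E => θ ((φ ^ i) e)) z c' :=
      ⟨CharCore.isCharacter_comp hθg.1 (φ ^ i).toMonoidHom,
        (congrArg θ (map_one (φ ^ i))).trans hθg.2.1, (congrArg θ (h.aut_z _)).trans hθg.2.2⟩
    exact congrFun (h.good_eq hg2 hθg) _
  obtain ⟨ψ, ⟨hψ, hres, hdet⟩, -⟩ := BlkChar.exists_canonical G _ hcop htop χ hinv
  refine ⟨ψ, ⟨⟨CharCore.IsIrrCharacter.isCharacter hψ, ?_, ?_⟩, ?_, fun q hq => ?_⟩⟩
  · exact (hres 1).trans hθg.2.1
  · exact (hres ⟨inl z, by simp [G, mem_base]⟩).trans hθg.2.2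
  · have hs : sgen φ (⊥ : Subgroup (MulAut E)) ^ Nat.card (Subgroup.zpowers (sgen φ ⊥)) = 1 := by
      rw [Nat.card_zpowers]; exact pow_orderOf_eq_one _
    rw [CharDeep.Ext.detOrder_eq] at hdet
    refine orderOf_eq_one_iff.mp (Nat.eq_one_of_dvd_coprimes hdet ?_ ?_)
    · exact orderOf_dvd_of_pow_eq_one (by
        rw [← MonoidHom.pow_apply, pow_orderOf_eq_one, MonoidHom.one_apply])
    · exact orderOf_dvd_of_pow_eq_one (by rw [← map_pow, hs, map_one])
  · obtain rfl := Subgroup.mem_bot.mp hq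
    congr 1
    exact mul_eq_right.mpr (SemidirectProduct.ext rfl (Subtype.ext rfl))

theorem exists_nice_step {Q Q' : Subgroup (MulAut E)} (hQ' : IsPGroup 2 Q')
    (hQ'φ : ∀ q ∈ Q', q * φ = φ * q) (hQQ : Q ≤ Q')
    (hidx : ∀ a ∈ Q', ∀ b ∈ Q', a ∉ Q → b ∉ Q → a * b ∈ Q)
    {q₀ : MulAut E} (hq₀ : q₀ ∈ Q') (hq₀Q : q₀ ∉ Q)
    {ψ : Big φ Q → ℂ} (hψ : Nice φ z Q c ψ) : ∃ F : Big φ Q' → ℂ, Nice φ z Q' c F := by
  classical
  have hQ : IsPGroup 2 Q := hQ'.to_le hQQ
  have hQφ : ∀ q ∈ Q, q * φ = φ * q := fun q hq => hQ'φ q (hQQ hq)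
  have hle : MS φ Q ≤ MS φ Q' := sup_le_sup_left hQQ _
  have hout : ∀ {i : ℤ} {q : MulAut E}, φ ^ i * q ∈ MS φ Q → q ∈ Q' → q ∈ Q := by
    intro i q hm hq
    obtain ⟨j, r, hr', e⟩ := mem_MS hQφ hm
    have h1 : q * r⁻¹ = φ ^ (j - i) := by
      rw [sub_eq_neg_add, zpow_add, zpow_neg, mul_inv_eq_iff_eq_mul, mul_assoc, ← e,
        inv_mul_cancel_left]
    obtain ⟨k, hk⟩ := hQ' ⟨q * r⁻¹, Q'.mul_mem hq (Q'.inv_mem (hQQ hr'))⟩
    have hd : orderOf (q * r⁻¹) ∣ 2 ^ k := orderOf_dvd_of_pow_eq_one (congrArg Subtype.val hk)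
    have hd2 : orderOf (q * r⁻¹) ∣ orderOf φ := by
      rw [h1]
      exact orderOf_dvd_of_mem_zpowers (Subgroup.zpow_mem_zpowers _ _)
    have hqr : q * r⁻¹ = 1 := orderOf_eq_one_iff.mp (Nat.eq_one_of_dvd_coprimes
      (((Nat.coprime_primes Nat.prime_two hr).mpr hr2.symm).pow_left k) hd hd2)
    rwa [mul_inv_eq_one.mp hqr]
  let l : ↥(MS φ Q') →* ℂˣ :=
    { toFun := fun m => if (m : MulAut E) ∈ MS φ Q then 1 else -1
      map_one' := if_pos (MS φ Q).one_mem
      map_mul' := fun a b => by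
        simp only [Subgroup.coe_mul]
        by_cases ha : (a : MulAut E) ∈ MS φ Q
        · simp [ha, Subgroup.mul_mem_cancel_left _ ha]
        by_cases hb : (b : MulAut E) ∈ MS φ Q
        · simp [ha, hb, Subgroup.mul_mem_cancel_right _ hb]
        obtain ⟨i, q, hq, hia⟩ := mem_MS hQ'φ a.2
        obtain ⟨j, r, hr', hjb⟩ := mem_MS hQ'φ b.2
        have hnq : q ∉ Q := fun hh => ha (hia ▸ (MS φ Q).mul_mem
          (zpow_mem (Subgroup.mem_sup_left (Subgroup.mem_zpowers φ)) _) (Subgroup.mem_sup_right hh))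
        have hnr : r ∉ Q := fun hh => hb (hjb ▸ (MS φ Q).mul_mem
          (zpow_mem (Subgroup.mem_sup_left (Subgroup.mem_zpowers φ)) _) (Subgroup.mem_sup_right hh))
        have hab : (a : MulAut E) * b ∈ MS φ Q := by
          rw [hia, hjb, mul_assoc, ← mul_assoc q, (Commute.zpow_right (hQ'φ q hq) j).eq,
            ← mul_assoc, ← mul_assoc, mul_assoc (φ ^ i * φ ^ j)]
          exact (MS φ Q).mul_mem (Subgroup.mem_sup_left (mul_mem (Subgroup.zpow_mem_zpowers _ _)
            (Subgroup.zpow_mem_zpowers _ _))) (Subgroup.mem_sup_right (hidx q hq r hr' hnq hnr))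
        simp [ha, hb, hab] }
  have hlker : ∀ m : ↥(MS φ Q'), l m = 1 ↔ (m : MulAut E) ∈ MS φ Q := by
    intro m
    refine ⟨fun hm => ?_, fun hm => if_pos hm⟩
    by_contra hh
    have : l m = -1 := if_neg hh
    rw [this] at hm
    have := congrArg Units.val hm
    norm_num at this
  have hnorm : ∀ m ∈ MS φ Q', m ∈ Subgroup.normalizer (Subgroup.zpowers φ : Set (MulAut E)) ∧
      m ∈ Subgroup.normalizer (Q : Set (MulAut E)) := by
    intro m hm
    have h1 : MS φ Q' ≤ Subgroup.normalizer (Subgroup.zpowers φ : Set (MulAut E)) ⊓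
        Subgroup.normalizer (Q : Set (MulAut E)) := by
      refine sup_le ?_ (fun q hq => ⟨?_, ?_⟩)
      · rw [Subgroup.zpowers_le]
        refine ⟨Subgroup.le_normalizer (Subgroup.mem_zpowers φ),
          Subgroup.mem_normalizer_iff.mpr fun y => ?_⟩
        refine ⟨fun hy => ?_, fun hy => ?_⟩
        · rwa [← hQφ y hy, mul_inv_cancel_right]
        · have := hQφ _ hy
          rw [inv_mul_cancel_right] at this
          have e2 : φ * y * φ⁻¹ = y := (mul_left_cancel this).symm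
          rwa [e2] at hy
      · refine Subgroup.mem_normalizer_iff.mpr fun y => ?_
        have hcy : ∀ w ∈ Subgroup.zpowers φ, q * w * q⁻¹ = w := by
          intro w hw
          obtain ⟨i, rfl⟩ := Subgroup.mem_zpowers_iff.mp hw
          rw [(Commute.zpow_right (hQ'φ q hq) i).eq, mul_inv_cancel_right]
        refine ⟨fun hy => by rwa [hcy y hy], fun hy => ?_⟩
        have := hcy _ hy
        rwa [show y = q * y * q⁻¹ from mul_left_cancel (mul_right_cancel this).symm]
      · refine Subgroup.mem_normalizer_iff.mpr fun y => ?_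
        by_cases hqQ : q ∈ Q
        · exact (Subgroup.mem_normalizer_iff.mp (Subgroup.le_normalizer hqQ) y)
        have hconj : ∀ q' ∈ Q', q' ∉ Q → ∀ w ∈ Q, q' * w * q'⁻¹ ∈ Q := by
          intro q' h' hn w hw
          refine hidx _ (Q'.mul_mem h' (hQQ hw)) _ (Q'.inv_mem h') ?_ (by simpa using hn)
          exact fun hh => hn (by simpa using Q.mul_mem hh (Q.inv_mem hw))
        refine ⟨hconj q hq hqQ y, fun hy => ?_⟩
        have := hconj q⁻¹ (Q'.inv_mem hq) (by simpa using hqQ) _ hy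
        simpa [mul_assoc] using this
    exact h1 hm
  have : Finite l.range := Finite.of_surjective _ l.rangeRestrict_surjective
  have hcyc : IsCyclic l.range :=
    isCyclic_of_injective_ringHom ((Units.coeHom ℂ).comp l.range.subtype)
      (Units.val_injective.comp Subtype.val_injective)
  obtain ⟨F, hF, hFdet, hFval⟩ :=
    extend_nice h hr hr2 hfix hc hQ hQφ hQQ hnorm l hcyc hlker hψ
  obtain ⟨C, β, ε, hε, hC, hβ, -⟩ := value h hr hr2 hfix hQ' hQ'φ hc hF hFdet
  have := Fintype.ofFinite C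
  obtain ⟨n, ρ, hρ, hρβ⟩ := β.2
  have := hρ
  have hε0 : (ε : ℂ) ≠ 0 := by rcases hε with rfl | rfl <;> norm_num
  have hβ1 : F (sgen φ Q') = ε * (β : C → ℂ) 1 := by simpa using hβ 1
  have hn : ρ.character 1 = (n : ℂ) := by simp [Representation.char_one]
  have hq1 : ∀ (q : MulAut E) (hq : q ∈ Q),
      ρ ⟨qel φ Q' q (hQQ hq), (hC _).mpr ⟨hQQ hq, Or.inl rfl⟩⟩ = LinearMap.id := by
    intro q hq
    rw [← CharCore.character_eq_finrank_iff, hρβ, ← Representation.char_one ρ, hρβ]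
    refine mul_left_cancel₀ hε0 ?_
    rw [← hβ, ← hβ1]
    exact hFval q hq
  have hzC : (inl z : Big φ Q') ∈ C := (hC _).mpr ⟨by simp, Or.inr rfl⟩
  have hz1 : ρ ⟨inl z, hzC⟩ = (-1 : ℂ) • LinearMap.id := by
    refine rep_eq_neg ρ hn ?_
    rw [hρβ]
    have h1 := hβ ⟨inl z, hzC⟩
    rw [hF.z_mul, hβ1, ← hρβ, hn] at h1
    rw [← hρβ]
    exact mul_left_cancel₀ hε0 (h1.symm.trans (mul_neg _ _).symm)
  have hq0C : qel φ Q' q₀ hq₀ ∈ C := (hC _).mpr ⟨hq₀, Or.inl rfl⟩
  have hsplit : ∀ x : C, ∃ (b : ℂ), ρ x = b • LinearMap.id ∨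
      ρ x = b • ρ ⟨qel φ Q' q₀ hq₀, hq0C⟩ := by
    intro x
    obtain ⟨hxq, hxe⟩ := (hC _).mp x.2
    have hle' : ∃ b : ℂ, ρ ⟨inl (x : Big φ Q').left, (hC _).mpr ⟨by simp, by simpa using hxe⟩⟩ =
        b • LinearMap.id := by
      rcases hxe with e | e
      · refine ⟨1, ?_⟩
        rw [one_smul, ← Module.End.one_eq_id, ← map_one ρ]
        congr 1
        exact Subtype.ext (by simp [e])
      · refine ⟨-1, ?_⟩
        rw [← hz1]
        congr 1
        exact Subtype.ext (congrArg inl e)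
    obtain ⟨b, hb⟩ := hle'
    by_cases hh : ((x : Big φ Q').right : MulAut E) ∈ Q
    · refine ⟨b, Or.inl ?_⟩
      have hx : x = ⟨inl (x : Big φ Q').left, (hC _).mpr ⟨by simp, by simpa using hxe⟩⟩ *
          ⟨qel φ Q' _ (hQQ hh), (hC _).mpr ⟨hQQ hh, Or.inl rfl⟩⟩ :=
        Subtype.ext (SemidirectProduct.ext (by simp [qel]) (Subtype.ext (by simp [qel])))
      rw [hx, map_mul, hb, hq1 _ hh, smul_mul_assoc, Module.End.mul_eq_comp, LinearMap.id_comp]
    · refine ⟨b, Or.inr ?_⟩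
      have hrest : q₀⁻¹ * ((x : Big φ Q').right : MulAut E) ∈ Q :=
        hidx _ (Q'.inv_mem hq₀) _ hxq (by simpa using hq₀Q) hh
      have hx : x = ⟨inl (x : Big φ Q').left, (hC _).mpr ⟨by simp, by simpa using hxe⟩⟩ *
          ⟨qel φ Q' q₀ hq₀, hq0C⟩ *
          ⟨qel φ Q' _ (hQQ hrest), (hC _).mpr ⟨hQQ hrest, Or.inl rfl⟩⟩ :=
        Subtype.ext (SemidirectProduct.ext (by simp [qel]) (Subtype.ext (by simp [qel])))
      rw [hx, map_mul, map_mul, hb, hq1 _ hrest, Module.End.mul_eq_comp, Module.End.mul_eq_comp,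
        LinearMap.comp_id, LinearMap.smul_comp, LinearMap.id_comp]
  obtain ⟨t, ht⟩ := CharClifford.exists_scalar_of_commute ρ (ρ ⟨qel φ Q' q₀ hq₀, hq0C⟩) fun g => by
    obtain ⟨b, hb | hb⟩ := hsplit g <;> rw [hb]
    · exact (Commute.one_right _).smul_right b
    · exact (Commute.refl _).smul_right b
  have ht2 : t * t = 1 := by
    have hmem : q₀ * q₀ ∈ Q := hidx _ hq₀ _ hq₀ hq₀Q hq₀Q
    have h1 := hq1 _ hmem
    have hx : (⟨qel φ Q' _ (hQQ hmem), (hC _).mpr ⟨hQQ hmem, Or.inl rfl⟩⟩ : C) =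
        ⟨qel φ Q' q₀ hq₀, hq0C⟩ * ⟨qel φ Q' q₀ hq₀, hq0C⟩ :=
      Subtype.ext (SemidirectProduct.ext (by simp [qel]) (Subtype.ext (by simp [qel])))
    rw [hx, map_mul, ht, smul_mul_smul_comm, mul_one] at h1
    have := CharInd.nontrivial_of_irreducible ρ
    exact smul_left_injective ℂ (one_ne_zero (α := Module.End ℂ (Fin n → ℂ)))
      (h1.trans (one_smul ℂ (1 : Module.End ℂ (Fin n → ℂ))).symm)
  have hoff : ∀ (q : MulAut E) (hq : q ∈ Q'), q ∉ Q →
      F (qel φ Q' q hq * sgen φ Q') = t * F (sgen φ Q') := by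
    intro q hq hn'
    have hrest : q₀⁻¹ * q ∈ Q := hidx _ (Q'.inv_mem hq₀) _ hq (by simpa using hq₀Q) hn'
    have hqC : qel φ Q' q hq ∈ C := (hC _).mpr ⟨hq, Or.inl rfl⟩
    have hx : (⟨qel φ Q' q hq, hqC⟩ : C) = ⟨qel φ Q' q₀ hq₀, hq0C⟩ *
        ⟨qel φ Q' _ (hQQ hrest), (hC _).mpr ⟨hQQ hrest, Or.inl rfl⟩⟩ :=
      Subtype.ext (SemidirectProduct.ext (by simp [qel]) (Subtype.ext (by simp [qel])))
    rw [show F (qel φ Q' q hq * sgen φ Q') = _ from hβ ⟨qel φ Q' q hq, hqC⟩, hβ1, ← hρβ, hn, hx,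
      Representation.character, map_mul, ht, hq1 _ hrest, smul_mul_assoc, one_mul, map_smul,
      LinearMap.trace_id, Module.finrank_fin_fun, smul_eq_mul]
    ring
  rcases mul_self_eq_one_iff.mp ht2 with rfl | rfl
  · refine ⟨F, hF, hFdet, fun q hq => ?_⟩
    by_cases hh : q ∈ Q
    · exact hFval q hh
    · rw [hoff q hq hh, one_mul]
  · let L : Big φ Q' →* ℂˣ := l.comp rightHom
    have hLs : L (sgen φ Q') = 1 := (hlker _).mpr (Subgroup.mem_sup_left (Subgroup.mem_zpowers φ))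
    refine ⟨fun x => (L x : ℂ) * F x, ⟨CharCore.isCharacter_mul
      (CharCore.IsIrrCharacter.isCharacter (CharCore.isIrrCharacter_hom L)) hF.1, ?_, ?_⟩, ?_,
      fun q hq => ?_⟩
    · show (L 1 : ℂ) * F 1 = _
      rw [map_one, Units.val_one, one_mul]; exact hF.2.1
    · show (L _ : ℂ) * F _ = _
      rw [show L (inl z) = 1 from (hlker _).mpr (by simp), Units.val_one, one_mul]
      exact hF.2.2
    · rw [CharDeep.Ext.detHom_hom_mul L hF.1 hF.2.1, MonoidHom.mul_apply, MonoidHom.pow_apply, hLs,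
        one_pow, hFdet, one_mul]
    · show (L _ : ℂ) * F _ = (L _ : ℂ) * F _
      rw [map_mul, hLs, mul_one, Units.val_one, one_mul]
      by_cases hh : q ∈ Q
      · rw [show L (qel φ Q' q hq) = 1 from (hlker _).mpr (Subgroup.mem_sup_right hh),
          Units.val_one, one_mul]
        exact hFval q hh
      · have hL : L (qel φ Q' q hq) = -1 := if_neg fun hm => hh (hout (i := 0) (by
          rw [zpow_zero, one_mul]; exact hm) hq)
        rw [hL, hoff q hq hh]
        simp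

theorem exists_nice (Q : Subgroup (MulAut E)) (hQ : IsPGroup 2 Q)
    (hQφ : ∀ q ∈ Q, q * φ = φ * q) : ∃ ψ : Big φ Q → ℂ, Nice φ z Q c ψ := by
  induction hn : Nat.card Q using Nat.strong_induction_on generalizing Q with
  | _ n ih =>
    subst hn
    obtain ⟨k, hk⟩ := IsPGroup.iff_card.mp hQ
    rcases k with - | k
    · rw [pow_zero, Subgroup.card_eq_one] at hk
      subst hk
      exact exists_nice_bot h hr hr2 hfix hc
    · obtain ⟨K, hK⟩ := Sylow.exists_subgroup_card_pow_prime 2 (G := ↥Q) (n := k)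
        (by rw [hk]; exact pow_dvd_pow 2 k.le_succ)
      have hKidx : K.index = 2 := by
        have h1 := K.card_mul_index
        rw [hK, hk, pow_succ] at h1
        exact Nat.eq_of_mul_eq_mul_left (by positivity) h1
      let Q₁ : Subgroup (MulAut E) := K.map Q.subtype
      have hle : Q₁ ≤ Q := Subgroup.map_subtype_le K
      have hcard : Nat.card Q₁ < Nat.card Q := by
        rw [show Nat.card Q₁ = Nat.card K from
          Nat.card_congr (K.equivMapOfInjective _ Q.subtype_injective).toEquiv.symm, hK, hk]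
        exact Nat.pow_lt_pow_right (by norm_num) k.lt_succ_self
      have hmem : ∀ (a : MulAut E) (ha : a ∈ Q), a ∈ Q₁ ↔ (⟨a, ha⟩ : Q) ∈ K := fun a ha =>
        Subgroup.mem_map_iff_mem Q.subtype_injective (K := K) (x := (⟨a, ha⟩ : Q))
      obtain ⟨a₀, ha₀⟩ : ∃ a : Q, a ∉ K := by
        by_contra hh
        push Not at hh
        rw [Subgroup.eq_top_iff' K |>.mpr hh, Subgroup.index_top] at hKidx
        omega
      obtain ⟨ψ, hψ⟩ := ih _ hcard Q₁ (hQ.to_le hle) (fun q hq => hQφ q (hle hq)) rfl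
      exact exists_nice_step h hr hr2 hfix hc hQ hQφ hle (fun a ha b hb hna hnb => by
        rw [hmem _ (Q.mul_mem ha hb), show (⟨a * b, _⟩ : Q) = ⟨a, ha⟩ * ⟨b, hb⟩ from rfl,
          Subgroup.mul_mem_iff_of_index_two hKidx]
        exact iff_of_false (fun e => hna ((hmem a ha).mpr e)) (fun e => hnb ((hmem b hb).mpr e)))
        a₀.2 (fun e => ha₀ ((hmem _ a₀.2).mp e)) hψ

/-- The extension over a two-group normalising `⟨φ⟩`. -/
theorem field_hasExt (P : Subgroup (MulAut E)) (hP : IsPGroup 2 P)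
    (hPφ : P ≤ Subgroup.normalizer (Subgroup.zpowers φ : Set (MulAut E))) :
    HasExt z P.subtype := by
  classical
  let P₀ : Subgroup (MulAut E) := P ⊓ Subgroup.centralizer {φ}
  have hP0φ : ∀ q ∈ P₀, q * φ = φ * q := fun q hq =>
    (Subgroup.mem_centralizer_iff.mp hq.2 φ rfl).symm
  obtain ⟨ψ, hψ⟩ := exists_nice h hr hr2 hfix hc P₀ (hP.to_le inf_le_left) hP0φ
  have hφn : φ ∈ Subgroup.normalizer (Subgroup.zpowers φ : Set (MulAut E)) :=
    Subgroup.le_normalizer (Subgroup.mem_zpowers φ)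
  have hMSn : MS φ P ≤ Subgroup.normalizer (Subgroup.zpowers φ : Set (MulAut E)) :=
    sup_le (Subgroup.zpowers_le.mpr hφn) hPφ
  have hnorm : ∀ m ∈ MS φ P, m ∈ Subgroup.normalizer (Subgroup.zpowers φ : Set (MulAut E)) ∧
      m ∈ Subgroup.normalizer (P₀ : Set (MulAut E)) := by
    intro m hm
    refine ⟨hMSn hm, ?_⟩
    have h1 : MS φ P ≤ Subgroup.normalizer (P₀ : Set (MulAut E)) := by
      refine sup_le ?_ fun p hp => ?_
      · rw [Subgroup.zpowers_le]
        exact Subgroup.centralizer_le_normalizer _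
          (Subgroup.mem_centralizer_iff.mpr fun q hq => hP0φ q hq)
      · refine Subgroup.mem_normalizer_iff.mpr fun y => ?_
        have hconj : ∀ p ∈ P, ∀ y ∈ P₀, p * y * p⁻¹ ∈ P₀ := by
          intro p hp y hy
          refine ⟨P.mul_mem (P.mul_mem hp hy.1) (P.inv_mem hp),
            Subgroup.mem_centralizer_iff.mpr fun w hw' => ?_⟩
          rw [Set.mem_singleton_iff.mp hw']
          have hw : p⁻¹ * φ * p ∈ Subgroup.zpowers φ := by
            simpa using (Subgroup.mem_normalizer_iff.mp (hPφ (P.inv_mem hp)) φ).mp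
              (Subgroup.mem_zpowers φ)
          obtain ⟨i, hi⟩ := Subgroup.mem_zpowers_iff.mp hw
          have hc' : y * (p⁻¹ * φ * p) = p⁻¹ * φ * p * y := by
            rw [← hi]; exact (Commute.zpow_right (hP0φ y hy) i).eq
          calc φ * (p * y * p⁻¹) = p * (p⁻¹ * φ * p * y) * p⁻¹ := by group
            _ = p * y * p⁻¹ * φ := by rw [← hc']; group
        refine ⟨hconj p hp y, fun hy => ?_⟩
        simpa [mul_assoc] using hconj p⁻¹ (P.inv_mem hp) _ hy
    exact h1 hm
  let g : ↥(MS φ P) →* MulAut ↥(Subgroup.zpowers φ) :=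
    (Subgroup.normalizerMonoidHom (Subgroup.zpowers φ)).comp (Subgroup.inclusion hMSn)
  have hcyc : IsCyclic g.range := by
    have hpr : (Nat.card (Subgroup.zpowers φ)).Prime := by rw [Nat.card_zpowers]; exact hr
    have : Fact (Nat.card (Subgroup.zpowers φ)).Prime := ⟨hpr⟩
    have hcz : IsCyclic (ZMod (Nat.card (Subgroup.zpowers φ)))ˣ := ZMod.isCyclic_units_prime hpr
    have : IsCyclic (MulAut ↥(Subgroup.zpowers φ)) :=
      (IsCyclic.mulAutMulEquiv ↥(Subgroup.zpowers φ)).isCyclic.mpr hcz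
    infer_instance
  have hker : ∀ m : ↥(MS φ P), g m = 1 ↔ (m : MulAut E) ∈ MS φ P₀ := by
    intro m
    have hcent : g m = 1 ↔ (m : MulAut E) * φ = φ * m := by
      constructor
      · intro hg
        have := congrArg Subtype.val (DFunLike.congr_fun hg ⟨φ, Subgroup.mem_zpowers φ⟩)
        simpa [g, mul_inv_eq_iff_eq_mul] using this
      · intro hg
        ext ⟨w, hw⟩ : 2
        obtain ⟨i, rfl⟩ := Subgroup.mem_zpowers_iff.mp hw
        simp [g, (Commute.zpow_right hg i).eq]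
    rw [hcent]
    constructor
    · intro hm
      have hmem : (m : MulAut E) ∈ (P : Set (MulAut E)) * (Subgroup.zpowers φ : Set (MulAut E)) := by
        rw [← Subgroup.coe_mul_of_left_le_normalizer_right P _ hPφ, SetLike.mem_coe, sup_comm]
        exact m.2
      obtain ⟨p, hp, w, hw, hpw⟩ := hmem
      obtain ⟨i, rfl⟩ := Subgroup.mem_zpowers_iff.mp hw
      have hp0 : p ∈ P₀ := by
        refine ⟨hp, Subgroup.mem_centralizer_iff.mpr fun y hy => ?_⟩
        rw [Set.mem_singleton_iff.mp hy]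
        have hcw : Commute (φ ^ i) φ := (Commute.refl φ).zpow_left i
        have e : p * φ * φ ^ i = φ * p * φ ^ i := by
          rw [mul_assoc, ← hcw.eq, ← mul_assoc, show p * φ ^ i = (m : MulAut E) from hpw, hm,
            ← show p * φ ^ i = (m : MulAut E) from hpw, mul_assoc]
        exact (mul_right_cancel e).symm
      rw [← show p * φ ^ i = (m : MulAut E) from hpw]
      exact (MS φ P₀).mul_mem (Subgroup.mem_sup_right hp0)
        (Subgroup.mem_sup_left (Subgroup.zpow_mem_zpowers _ _))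
    · intro hm
      obtain ⟨i, q, hq, e⟩ := mem_MS hP0φ hm
      rw [e, mul_assoc, hP0φ q hq, ← mul_assoc, ((Commute.refl φ).zpow_left i).eq, mul_assoc]
  obtain ⟨F, hF, -, -⟩ :=
    extend_nice h hr hr2 hfix hc (hP.to_le inf_le_left) hP0φ inf_le_left hnorm g hcyc hker hψ
  exact (show HasExt z (MS φ P).subtype from ⟨F, c, hc, hF⟩).comp
    (Subgroup.inclusion le_sup_right) rfl

end Existence

end Cfsg.Agent.XSExt
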