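import Cfsg.Agent.XSExt.Space

/-!
# Lifting an isometry commuting with the acting group
-/

set_option autoImplicit false
set_option linter.style.haveILetI false

open Cfsg

namespace Cfsg.Agent.XSExt

universe u

variable {E : Type u} [Group E] [Finite E] {z : E}

/-- Two automorphisms commuting with `K` that agree on the quotient are equal. -/
theorem aut_ext (h : XS E z) (K : Subgroup (MulAut E)) (hodd : Odd (Nat.card K))
    (hfix : ∀ e, (∀ k ∈ K, k e = e) → e = 1 ∨ e = z) {a b : MulAut E}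
    (ha : ∀ k ∈ K, a * k = k * a) (hb : ∀ k ∈ K, b * k = k * b)
    (hab : ∀ x, pr (a x) = pr (b x)) : a = b := by
  have hmem : ∀ x, (a x)⁻¹ * b x = 1 ∨ (a x)⁻¹ * b x = z := fun x => by
    rcases (pr_eq h).mp (hab x) with e | e
    · exact Or.inl (by rw [e, inv_mul_cancel])
    · exact Or.inr (by rw [e, inv_mul_cancel_left])
  have hc : ∀ x w : E, ((a x)⁻¹ * b x) * w = w * ((a x)⁻¹ * b x) := fun x w => by
    rcases hmem x with e | e <;> rw [e]
    · simp
    · exact h.central w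
  let f : E →* E := MonoidHom.mk' (fun x => (a x)⁻¹ * b x) fun x y => by
    rw [map_mul, map_mul, mul_inv_rev, mul_assoc, ← mul_assoc (a x)⁻¹, hc, ← mul_assoc,
      hc x ((a y)⁻¹ * b y)]
  have key := invariant_hom_trivial h K hodd hfix f hmem
    (by show (a z)⁻¹ * b z = 1; rw [h.aut_z, h.aut_z, inv_mul_cancel])
    fun k hk x => by
      show (a (k x))⁻¹ * b (k x) = (a x)⁻¹ * b x
      rw [← MulAut.mul_apply, ← MulAut.mul_apply, ha k hk, hb k hk, MulAut.mul_apply,
        MulAut.mul_apply, ← map_inv, ← map_mul]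
      rcases hmem x with e | e <;> rw [e]
      · exact map_one k
      · exact h.aut_z k
  exact MulEquiv.ext fun x => inv_mul_eq_one.mp (key x)

/-- A bijective isometry commuting with `K` lifts to an automorphism commuting with `K`. -/
theorem exists_lift (h : XS E z) (K : Subgroup (MulAut E)) (hodd : Odd (Nat.card K))
    (hfix : ∀ e, (∀ k ∈ K, k e = e) → e = 1 ∨ e = z) (t : Sp E → Sp E) (ht : Function.Bijective t)
    (hadd : ∀ x y : E, ∀ x' y', pr x' = t (pr x) → pr y' = t (pr y) →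
      pr (x' * y') = t (pr (x * y)) ∧ cform x' y' = cform x y)
    (hcomm : ∀ k ∈ K, ∀ v, t (indMap k v) = indMap k (t v)) :
    ∃ a : MulAut E, (∀ k ∈ K, a * k = k * a) ∧ ∀ x, pr (a x) = t (pr x) := by
  classical
  have := Fintype.ofFinite K
  have h10 : t (pr 1) = pr 1 := by
    obtain ⟨w, hw⟩ := pr_surjective (E := E) (t (pr 1))
    have h2 := (hadd 1 1 w w hw hw).1
    rw [one_mul, ← hw] at h2
    rcases (pr_eq h).mp h2 with e | e
    · rw [← hw, left_eq_mul.mp e]
    · rw [mul_assoc, left_eq_mul] at e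
      rw [← hw, eq_inv_of_mul_eq_one_left e]
      exact (pr_eq h).mpr (Or.inr (by rw [inv_mul_cancel]))
  let D : Submonoid (E × E) :=
    { carrier := {d | pr d.2 = t (pr d.1)}
      one_mem' := h10.symm
      mul_mem' := fun {a b} ha hb => (hadd a.1 b.1 a.2 b.2 ha hb).1 }
  let D' : Subgroup (E × E) :=
    { D with
      inv_mem' := fun {a} ha => by
        have hfin : IsOfFinOrder a := isOfFinOrder_of_finite a
        have : a⁻¹ ∈ Submonoid.powers a :=
          hfin.mem_powers_iff_mem_zpowers.mpr (Subgroup.inv_mem _ (Subgroup.mem_zpowers a))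
        obtain ⟨n, hn⟩ := (Submonoid.mem_powers_iff _ _).mp this
        rw [← hn]
        exact D.pow_mem ha n }
  let zz : E × E := (z, z)
  have hzzD : zz ∈ D' := by
    show pr z = t (pr z)
    rw [show pr z = pr 1 from (pr_eq h).mpr (Or.inr (by rw [h.sq]))]
    exact h10.symm
  let Δ : Subgroup D' := Subgroup.zpowers ⟨zz, hzzD⟩
  have hΔc : Δ ≤ Subgroup.center D' := by
    rw [Subgroup.zpowers_le, Subgroup.mem_center_iff]
    exact fun g => Subtype.ext (Prod.ext (h.central _).symm (h.central _).symm)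
  have hΔn : Δ.Normal := ⟨fun n hn g => by
    rwa [Subgroup.mem_center_iff.mp (hΔc hn) g, mul_inv_cancel_right]⟩
  have hdelta : ∀ d : D', d ∈ Δ → d.1 = (1, 1) ∨ d.1 = zz := by
    intro d hd
    obtain ⟨i, rfl⟩ := Subgroup.mem_zpowers_iff.mp hd
    rw [SubgroupClass.coe_zpow]
    have h2 : zz ^ (2 : ℤ) = 1 := by rw [zpow_two]; exact Prod.ext h.sq h.sq
    rcases Int.even_or_odd' i with ⟨j, rfl | rfl⟩
    · exact Or.inl (by rw [zpow_mul, h2, one_zpow]; rfl)
    · exact Or.inr (by rw [zpow_add, zpow_mul, h2, one_zpow, one_mul, zpow_one])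
  have hab : ∀ a b : D' ⧸ Δ, a * b = b * a := by
    intro a b
    obtain ⟨d, rfl⟩ := QuotientGroup.mk_surjective a
    obtain ⟨d', rfl⟩ := QuotientGroup.mk_surjective b
    rw [← QuotientGroup.mk_mul, ← QuotientGroup.mk_mul]
    have hcf := (hadd d.1.1 d'.1.1 d.1.2 d'.1.2 d.2 d'.2).2
    by_cases hc : d.1.1 * d'.1.1 = d'.1.1 * d.1.1
    · have hc2 : d.1.2 * d'.1.2 = d'.1.2 * d.1.2 :=
        (cform_eq_zero _ _).mp (hcf.trans ((cform_eq_zero _ _).mpr hc))
      exact congrArg _ (Subtype.ext (Prod.ext hc hc2))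
    · have hc2 : ¬ d.1.2 * d'.1.2 = d'.1.2 * d.1.2 := fun e =>
        hc ((cform_eq_zero _ _).mp (hcf.symm.trans ((cform_eq_zero _ _).mpr e)))
      symm
      refine QuotientGroup.eq.mpr ?_
      rw [show (d' * d)⁻¹ * (d * d') = ⟨zz, hzzD⟩ from Subtype.ext (Prod.ext ?_ ?_)]
      · exact Subgroup.mem_zpowers _
      · show (d'.1.1 * d.1.1)⁻¹ * (d.1.1 * d'.1.1) = z
        rw [(h.comm _ _).resolve_left hc, inv_mul_cancel_left]
      · show (d'.1.2 * d.1.2)⁻¹ * (d.1.2 * d'.1.2) = z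
        rw [(h.comm _ _).resolve_left hc2, inv_mul_cancel_left]
  letI : CommGroup (D' ⧸ Δ) := { mul_comm := hab }
  have hkD : ∀ k ∈ K, ∀ d ∈ D', ((k d.1, k d.2) : E × E) ∈ D' := fun k hk d hd => by
    show pr (k d.2) = t (pr (k d.1))
    rw [← indMap_pr, ← indMap_pr, show pr d.2 = t (pr d.1) from hd, hcomm k hk]
  let act : K → (D' →* D') := fun k =>
    ((MonoidHom.prodMap (k : MulAut E).toMonoidHom (k : MulAut E).toMonoidHom).comp
      D'.subtype).codRestrict D' fun d => hkD k k.2 d.1 d.2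
  let N : D' →* D' ⧸ Δ := ∏ k : K, (QuotientGroup.mk' Δ).comp (act k)
  have hN : ∀ d, N d = ∏ k : K, ((act k d : D') : D' ⧸ Δ) := fun d => by
    simp only [N, MonoidHom.finsetProd_apply]; rfl
  have hpow : ∀ d : D', (∀ k : K, act k d = d) → N d = (d : D' ⧸ Δ) ^ Nat.card K := fun d hd => by
    rw [hN, Finset.prod_congr rfl fun k _ => by rw [hd k], Finset.prod_const, Finset.card_univ,
      Nat.card_eq_fintype_card]
  -- images of `N`
  have himg : ∀ d, ∃ c : D', N d = (c : D' ⧸ Δ) ∧ (c.1.1 = 1 ∨ c.1.1 = z) ∧ (c.1.2 = 1 ∨ c.1.2 = z) := by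
    intro d
    obtain ⟨c, hc⟩ := QuotientGroup.mk_surjective (N d)
    refine ⟨c, hc.symm, ?_⟩
    have hk : ∀ k ∈ K, ∃ e : E, (e = 1 ∨ e = z) ∧ k c.1.1 = c.1.1 * e ∧ k c.1.2 = c.1.2 * e := by
      intro k hk
      have hfixN : ((act ⟨k, hk⟩ c : D') : D' ⧸ Δ) = c := by
        let qa : D' ⧸ Δ →* D' ⧸ Δ := QuotientGroup.map Δ Δ (act ⟨k, hk⟩) (by
          rw [Subgroup.zpowers_le, Subgroup.mem_comap]
          rw [show act ⟨k, hk⟩ ⟨zz, hzzD⟩ = ⟨zz, hzzD⟩ from
            Subtype.ext (Prod.ext (h.aut_z _) (h.aut_z _))]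
          exact Subgroup.mem_zpowers _)
        show qa (c : D' ⧸ Δ) = c
        rw [hc, hN, map_prod]
        exact Fintype.prod_equiv (Equiv.mulLeft (⟨k, hk⟩ : K)) _ _ fun j => rfl
      rcases hdelta _ (QuotientGroup.eq.mp hfixN.symm) with e | e
      · refine ⟨1, Or.inl rfl, ?_, ?_⟩ <;> rw [mul_one]
        · exact (inv_mul_eq_one.mp (congrArg Prod.fst e)).symm
        · exact (inv_mul_eq_one.mp (congrArg Prod.snd e)).symm
      · exact ⟨z, Or.inr rfl, inv_mul_eq_iff_eq_mul.mp (congrArg Prod.fst e),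
          inv_mul_eq_iff_eq_mul.mp (congrArg Prod.snd e)⟩
    have hkfix : ∀ x : E, (∀ k ∈ K, ∃ e : E, (e = 1 ∨ e = z) ∧ k x = x * e) → x = 1 ∨ x = z := by
      intro x hx
      refine hfix x fun k hk => ?_
      obtain ⟨e, he, hxe⟩ := hx k hk
      have hit : ∀ n : ℕ, (k ^ n) x = x * e ^ n := by
        intro n
        induction n with
        | zero => simp
        | succ n ih =>
          rw [pow_succ' k, MulAut.mul_apply, ih, map_mul, map_pow, hxe, pow_succ', ← mul_assoc]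
          rcases he with rfl | rfl
          · simp
          · rw [h.aut_z]
      have h1 := hit (Nat.card K)
      rw [show k ^ Nat.card K = 1 from congrArg Subtype.val (pow_card_eq_one' (x := (⟨k, hk⟩ : K))),
        MulAut.one_apply, left_eq_mul] at h1
      rcases he with rfl | rfl
      · rw [hxe, mul_one]
      · obtain ⟨m, hm⟩ := hodd
        rw [hm, pow_succ, pow_mul, pow_two, h.sq, one_pow, one_mul] at h1
        exact absurd h1 h.ne
    exact ⟨hkfix _ fun k hk' => by obtain ⟨e, he, h1, -⟩ := hk k hk'; exact ⟨e, he, h1⟩,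
      hkfix _ fun k hk' => by obtain ⟨e, he, -, h2⟩ := hk k hk'; exact ⟨e, he, h2⟩⟩
  let w : D' := ⟨(1, z), by
    show pr z = t (pr 1)
    rw [h10]; exact (pr_eq h).mpr (Or.inr (by rw [h.sq]))⟩
  have hw1 : (w : D' ⧸ Δ) ≠ 1 := by
    rw [Ne, QuotientGroup.eq_one_iff]
    intro hw
    rcases hdelta _ hw with e | e
    · exact h.ne (congrArg Prod.snd e)
    · exact h.ne (congrArg Prod.fst e).symm
  have hNw : N w = (w : D' ⧸ Δ) := by
    rw [hpow w fun k => Subtype.ext (Prod.ext (map_one (k : MulAut E)) (h.aut_z _))]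
    obtain ⟨m, hm⟩ := hodd
    rw [hm, pow_succ, pow_mul, ← QuotientGroup.mk_pow, show w ^ 2 = 1 from
      Subtype.ext (Prod.ext (one_pow 2) (by show z ^ 2 = 1; rw [pow_two, h.sq]))]
    simp
  -- the graph
  have hex : ∀ x, ∃ y, ∃ hy : ((x, y) : E × E) ∈ D', N ⟨(x, y), hy⟩ = 1 := by
    intro x
    obtain ⟨y, hy⟩ := pr_surjective (E := E) (t (pr x))
    obtain ⟨c, hc, h1, h2⟩ := himg ⟨(x, y), hy⟩
    have hcc : (c : D' ⧸ Δ) = 1 ∨ (c : D' ⧸ Δ) = w := by
      rcases h1 with a | a <;> rcases h2 with b | b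
      · exact Or.inl (by rw [show c = 1 from Subtype.ext (Prod.ext a b)]; rfl)
      · exact Or.inr (by rw [show c = w from Subtype.ext (Prod.ext a b)])
      · right
        refine (QuotientGroup.eq.mpr ?_).symm
        rw [show w⁻¹ * c = ⟨zz, hzzD⟩ from Subtype.ext (Prod.ext (by show 1⁻¹ * c.1.1 = z; simp [a])
          (by show z⁻¹ * c.1.2 = z; rw [b, mul_one]; exact inv_eq_of_mul_eq_one_right h.sq))]
        exact Subgroup.mem_zpowers _
      · left
        rw [QuotientGroup.eq_one_iff, show c = ⟨zz, hzzD⟩ from Subtype.ext (Prod.ext a b)]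
        exact Subgroup.mem_zpowers _
    rcases hcc with e | e
    · exact ⟨y, hy, by rw [hc, e]⟩
    · have hyz : ((x, y * z) : E × E) ∈ D' := by
        simpa [w] using ((⟨(x, y), hy⟩ : D') * w).2
      refine ⟨y * z, hyz, ?_⟩
      have : (⟨(x, y * z), hyz⟩ : D') = ⟨(x, y), hy⟩ * w :=
        Subtype.ext (Prod.ext (mul_one x).symm rfl)
      rw [this, map_mul, hNw, hc, e, ← QuotientGroup.mk_mul, show w * w = 1 from
        Subtype.ext (Prod.ext (one_mul 1) h.sq)]
      rfl
  have huniq : ∀ x y y' (hy : ((x, y) : E × E) ∈ D') (hy' : ((x, y') : E × E) ∈ D'),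
      N ⟨(x, y), hy⟩ = 1 → N ⟨(x, y'), hy'⟩ = 1 → y = y' := by
    intro x y y' hy hy' h1 h2
    rcases (pr_eq h).mp ((show pr y = t (pr x) from hy).trans (show pr y' = t (pr x) from hy').symm)
      with e | e
    · exact e.symm
    · subst e
      have : (⟨(x, y * z), hy'⟩ : D') = ⟨(x, y), hy⟩ * w :=
        Subtype.ext (Prod.ext (mul_one x).symm rfl)
      rw [this, map_mul, h1, one_mul, hNw] at h2
      exact absurd h2 hw1
  choose g hgD hgN using hex
  let G : E →* E := MonoidHom.mk' g fun x y =>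
    huniq _ _ _ (hgD _) (D'.mul_mem (hgD x) (hgD y)) (hgN _) (by
      show N (⟨(x, g x), hgD x⟩ * ⟨(y, g y), hgD y⟩) = 1
      rw [map_mul, hgN, hgN, one_mul])
  have hGi : Function.Injective G := by
    rw [injective_iff_map_eq_one]
    intro x hx
    have h1 : pr (1 : E) = t (pr x) := hx ▸ hgD x
    rw [← h10] at h1
    rcases (pr_eq h).mp (ht.1 h1) with e | e
    · exact e
    · rw [one_mul] at e
      have hd : N ⟨zz, hzzD⟩ = 1 := by
        rw [hpow _ fun k => Subtype.ext (Prod.ext (h.aut_z _) (h.aut_z _))]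
        rw [(QuotientGroup.eq_one_iff _).mpr (Subgroup.mem_zpowers _), one_pow]
      rw [e] at hx
      exact absurd (hx.symm.trans (huniq z (g z) z (hgD z) hzzD (hgN z) hd)).symm h.ne
  refine ⟨MulEquiv.ofBijective G (Finite.injective_iff_bijective.mp hGi), fun k hk => ?_,
    fun x => hgD x⟩
  refine MulEquiv.ext fun x => ?_
  show g (k x) = k (g x)
  refine huniq _ _ _ (hgD _) (hkD k hk (x, g x) (hgD x)) (hgN _) ?_
  show N (act ⟨k, hk⟩ ⟨(x, g x), hgD x⟩) = 1
  rw [← hgN x, hN, hN]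
  exact Fintype.prod_equiv (Equiv.mulRight (⟨k, hk⟩ : K)) _ _ fun j => rfl

end Cfsg.Agent.XSExt
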