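import Cfsg.Agent.XSExt.Step
import Cfsg.Agent.Lib.CharInd.Char

/-!
# The extension when the group is a product of two abelian subgroups with trivial fixed points
-/

set_option autoImplicit false
set_option linter.style.haveILetI false

open Cfsg SemidirectProduct
open scoped ComplexConjugate

namespace Cfsg.Agent.XSExt

universe u

variable {E : Type u} [Group E] [Finite E] {z : E}

/-- An abelian subgroup containing `z` and invariant under `K`. -/
structure Half (z : E) (K : Subgroup (MulAut E)) (W : Subgroup E) : Prop where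
  comm : ∀ a ∈ W, ∀ b ∈ W, a * b = b * a
  zmem : z ∈ W
  inv : ∀ k ∈ K, ∀ w ∈ W, k w ∈ W

variable {K : Subgroup (MulAut E)}

/-- The product of all conjugates of an element of an abelian invariant subgroup. -/
noncomputable def nrm {W : Subgroup E} (hW : Half z K W) : W →* E :=
  haveI := Fintype.ofFinite K
  letI : CommGroup W := { mul_comm := fun a b => Subtype.ext (hW.comm a a.2 b b.2) }
  W.subtype.comp (∏ k : K, ((k : MulAut E).toMonoidHom.comp W.subtype).codRestrict W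
    fun w => hW.inv k k.2 w w.2)

theorem nrm_fixed {W : Subgroup E} (hW : Half z K W) (w : W) {k : MulAut E} (hk : k ∈ K) :
    k (nrm hW w) = nrm hW w := by
  classical
  letI := Fintype.ofFinite K
  letI : CommGroup W := { mul_comm := fun a b => Subtype.ext (hW.comm a a.2 b b.2) }
  let f : W →* W := (k.toMonoidHom.comp W.subtype).codRestrict W fun x => hW.inv k hk x x.2
  let t : K → W := fun j => ⟨(j : MulAut E) w, hW.inv j j.2 w w.2⟩
  have hn : nrm hW w = ((∏ j : K, t j : W) : E) := by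
    simp only [nrm, MonoidHom.comp_apply, MonoidHom.finsetProd_apply, Subgroup.coe_subtype]
    rfl
  rw [hn]
  show ((f (∏ j : K, t j) : W) : E) = _
  rw [map_prod]
  congr 1
  exact Fintype.prod_equiv (Equiv.mulLeft (⟨k, hk⟩ : K)) _ _ fun j => rfl

theorem nrm_map {W W' : Subgroup E} (hW : Half z K W) (hW' : Half z K W') (g : MulAut E)
    (hg : ∀ k : MulAut E, k ∈ K ↔ g * k * g⁻¹ ∈ K) (w : W) (hw : g (w : E) ∈ W')
    (hmap : ∀ x ∈ W, g x ∈ W') : nrm hW' ⟨g w, hw⟩ = g (nrm hW w) := by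
  classical
  letI := Fintype.ofFinite K
  letI : CommGroup W := { mul_comm := fun a b => Subtype.ext (hW.comm a a.2 b b.2) }
  letI : CommGroup W' := { mul_comm := fun a b => Subtype.ext (hW'.comm a a.2 b b.2) }
  let f : W →* W' := (g.toMonoidHom.comp W.subtype).codRestrict W' fun x => hmap x x.2
  let t : K → W := fun j => ⟨(j : MulAut E) w, hW.inv j j.2 w w.2⟩
  let t' : K → W' := fun j => ⟨(j : MulAut E) (g w), hW'.inv j j.2 _ hw⟩
  have hn : nrm hW w = ((∏ j : K, t j : W) : E) := by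
    simp only [nrm, MonoidHom.comp_apply, MonoidHom.finsetProd_apply, Subgroup.coe_subtype]
    rfl
  have hn' : nrm hW' ⟨g w, hw⟩ = ((∏ j : K, t' j : W') : E) := by
    simp only [nrm, MonoidHom.comp_apply, MonoidHom.finsetProd_apply, Subgroup.coe_subtype]
    rfl
  rw [hn, hn']
  show _ = ((f (∏ j : K, t j) : W') : E)
  rw [map_prod]
  congr 1
  let σ : ↥K ≃ ↥K :=
    { toFun := fun j => ⟨g * (j : MulAut E) * g⁻¹, (hg _).mp j.2⟩
      invFun := fun j => ⟨g⁻¹ * (j : MulAut E) * g, (hg (g⁻¹ * (j : MulAut E) * g)).mpr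
        (by simp [mul_assoc])⟩
      left_inv := fun j => Subtype.ext (by simp [mul_assoc])
      right_inv := fun j => Subtype.ext (by simp [mul_assoc]) }
  refine (Fintype.prod_equiv σ (fun j => f (t j)) t' fun j => Subtype.ext ?_).symm
  simp [f, t, t', σ]

section

variable (h : XS E z) (hodd : Odd (Nat.card K))
  (hfix : ∀ e, (∀ k ∈ K, k e = e) → e = 1 ∨ e = z)
include hfix

theorem nrm_mem {W : Subgroup E} (hW : Half z K W) (w : W) :
    nrm hW w = 1 ∨ nrm hW w = z :=
  hfix _ fun _ hk => nrm_fixed hW w hk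

include h hodd in
omit hfix in
theorem nrm_z {W : Subgroup E} (hW : Half z K W) (w : W) (hw : (w : E) = 1 ∨ (w : E) = z) :
    nrm hW w = w := by
  classical
  letI := Fintype.ofFinite K
  letI : CommGroup W := { mul_comm := fun a b => Subtype.ext (hW.comm a a.2 b b.2) }
  rcases hw with e | e
  · rw [show w = 1 from Subtype.ext e, map_one]; rfl
  have hn : nrm hW w = ((∏ j : K, w : W) : E) := by
    simp only [nrm, MonoidHom.comp_apply, MonoidHom.finsetProd_apply, Subgroup.coe_subtype]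
    congr 1
    exact Finset.prod_congr rfl fun j _ => Subtype.ext (by simp [e, h.aut_z])
  rw [hn, Finset.prod_const, Finset.card_univ, SubmonoidClass.coe_pow, e,
    ← Nat.card_eq_fintype_card]
  obtain ⟨m, hm⟩ := hodd
  rw [hm, pow_succ, pow_mul, pow_two, h.sq, one_pow, one_mul]

end

theorem pair_hasExt (h : XS E z) (hodd : Odd (Nat.card K))
    (hfix : ∀ e, (∀ k ∈ K, k e = e) → e = 1 ∨ e = z)
    (P : Subgroup (MulAut E)) (hPK : ∀ p ∈ P, ∀ k : MulAut E, k ∈ K ↔ p * k * p⁻¹ ∈ K)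
    (U U' : Subgroup E) (hU : Half z K U) (hU' : Half z K U') (hne : U ≠ U')
    (hinf : ∀ x ∈ U, x ∈ U' → x = 1 ∨ x = z) (hprod : ∀ e, ∃ u ∈ U, ∃ v ∈ U', e = u * v)
    (hperm : ∀ p ∈ P, ((∀ x ∈ U, p x ∈ U) ∧ ∀ x ∈ U', p x ∈ U') ∨
      ((∀ x ∈ U, p x ∈ U') ∧ ∀ x ∈ U', p x ∈ U)) : HasExt z P.subtype := by
  classical
  obtain ⟨θ, c, -, hθ, hc⟩ := h.exists_good
  have hc0 : (c : ℂ) ≠ 0 := by
    have := Nat.card_pos (α := E)
    exact Nat.cast_ne_zero.mpr fun e => by subst e; rw [zero_mul, zero_mul] at hc; omega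
  -- the linear characters
  have mkLam : ∀ {W : Subgroup E} (hW : Half z K W), ∃ l : W →* ℂˣ,
      ∀ w, l w = if nrm hW w = 1 then 1 else -1 := by
    intro W hW
    refine ⟨{ toFun := fun w => if nrm hW w = 1 then 1 else -1, map_one' := by simp,
              map_mul' := fun a b => ?_ }, fun w => rfl⟩
    rw [map_mul]
    rcases nrm_mem hfix hW a with ea | ea <;> rcases nrm_mem hfix hW b with eb | eb <;>
      simp [ea, eb, h.sq, h.ne]
  have hbound : ∀ {W : Subgroup E}, Half z K W → Nat.card W ≤ 2 * c := by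
    intro W hW
    have := Fintype.ofFinite W
    obtain ⟨l, hl⟩ := mkLam hW
    have hlz : l ⟨z, hW.zmem⟩ = -1 := by
      rw [hl, nrm_z h hodd hW _ (Or.inr rfl), if_neg h.ne]
    obtain ⟨m, hm⟩ := CharCore.IsCharacter.exists_classInner_eq_natCast
      (CharCore.isCharacter_restrict hθ.1 W)
      (CharCore.IsIrrCharacter.isCharacter (CharCore.isIrrCharacter_hom l))
    have hval : classInner (fun w : W => θ w) (fun w : W => (l w : ℂ)) = 2 * c / Nat.card W := by
      rw [classInner, ← Finset.sum_subset (Finset.subset_univ {1, ⟨z, hW.zmem⟩}) fun x _ hx => by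
        simp only [Finset.mem_insert, Finset.mem_singleton, not_or] at hx
        rw [h.vanish hθ (fun e => hx.1 (Subtype.ext e)) (fun e => hx.2 (Subtype.ext e)), zero_mul],
        Finset.sum_pair (fun e => h.ne (congrArg Subtype.val e).symm), hlz]
      simp only [OneMemClass.coe_one, map_one, hθ.2.1, hθ.2.2, Units.val_one, Units.val_neg,
        map_neg]
      ring
    rw [hval] at hm
    have hW0 : (Nat.card W : ℂ) ≠ 0 := Nat.cast_ne_zero.mpr Nat.card_pos.ne'
    field_simp at hm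
    have hm' : 2 * c = Nat.card W * m := by
      have : ((2 * c : ℕ) : ℂ) = ((Nat.card W * m : ℕ) : ℂ) := by push_cast; linear_combination hm
      exact_mod_cast this
    have hm0 : 0 < m := by
      rcases Nat.eq_zero_or_pos m with e | e
      · rw [e, mul_zero] at hm'
        simp only [mul_eq_zero, OfNat.ofNat_ne_zero, false_or] at hm'
        exact absurd (by rw [hm']; simp) hc0
      · exact e
    rw [hm']
    exact Nat.le_mul_of_pos_right _ hm0
  have hge : 2 * Nat.card E ≤ Nat.card U * Nat.card U' := by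
    choose fu hfu fv hfv hfe using hprod
    let f : E × Bool → U × U' := fun x => if x.2 then (⟨fu x.1, hfu _⟩, ⟨fv x.1, hfv _⟩) else
      (⟨fu x.1 * z, U.mul_mem (hfu _) hU.zmem⟩, ⟨z * fv x.1, U'.mul_mem hU'.zmem (hfv _)⟩)
    have hrec : ∀ x, ((f x).1 : E) * (f x).2 = x.1 := by
      rintro ⟨e, b⟩
      cases b <;> simp only [f, if_true, if_false, Bool.false_eq_true]
      · rw [mul_assoc, ← mul_assoc z, h.sq, one_mul, ← hfe]
      · exact (hfe e).symm
    have hf : Function.Injective f := by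
      intro x y e
      have e1 : x.1 = y.1 := by rw [← hrec x, ← hrec y, e]
      refine Prod.ext e1 ?_
      obtain ⟨a, b⟩ := x
      obtain ⟨a', b'⟩ := y
      subst e1
      have := congrArg (fun p : U × U' => (p.1 : E)) e
      cases b <;> cases b' <;> simp [f, h.ne] at this ⊢
    have := Nat.card_le_card_of_injective f hf
    rw [Nat.card_prod, Nat.card_prod, Nat.card_eq_fintype_card (α := Bool), Fintype.card_bool] at this
    omega
  have hUc : Nat.card U = 2 * c := by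
    refine le_antisymm (hbound hU) ?_
    by_contra hlt
    push Not at hlt
    have h1 : Nat.card U * Nat.card U' < 2 * c * (2 * c) :=
      Nat.mul_lt_mul_of_lt_of_le hlt (hbound hU') (by
        have := Nat.card_pos (α := U'); have := hbound hU'; omega)
    rw [← hc] at hge
    nlinarith
  -- the stabiliser
  let P₁ : Subgroup (MulAut E) :=
    { carrier := {p | p ∈ P ∧ ∀ x ∈ U, p x ∈ U}
      one_mem' := ⟨P.one_mem, fun x hx => hx⟩
      mul_mem' := fun {a b} ha hb => ⟨P.mul_mem ha.1 hb.1, fun x hx => ha.2 _ (hb.2 x hx)⟩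
      inv_mem' := fun {a} ha => ⟨P.inv_mem ha.1, fun x hx => by
        have hm : U.map a.toMonoidHom = U := Subgroup.eq_of_le_of_card_ge
          (by rintro _ ⟨y, hy, rfl⟩; exact ha.2 y hy)
          (Nat.card_congr (U.equivMapOfInjective _ a.injective).toEquiv).le
        rw [← hm] at hx
        obtain ⟨y, hy, rfl⟩ := hx
        simpa using hy⟩ }
  have hnle : ¬ U ≤ U' := fun hle => by
    have htop : ∀ e, e ∈ U' := fun e => by
      obtain ⟨u, hu, v, hv, rfl⟩ := hprod e
      exact U'.mul_mem (hle hu) hv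
    have hsmall : ∀ e, e = 1 ∨ e = z := fun e =>
      h.nondeg e fun y => hU'.comm e (htop e) y (htop y)
    refine hne ?_
    ext e
    exact iff_of_true (by rcases hsmall e with rfl | rfl <;> [exact U.one_mem; exact hU.zmem]) (htop e)
  have hboth : ∀ p ∈ P₁, ∀ x ∈ U', p x ∈ U' := by
    intro p hp x hx
    rcases hperm p hp.1 with ⟨-, h2⟩ | ⟨h1, -⟩
    · exact h2 x hx
    · refine absurd (fun y hy => ?_) hnle
      have := hp.2
      obtain ⟨y', hy', rfl⟩ : ∃ y' ∈ U, p y' = y :=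
        ⟨p⁻¹ y, (P₁.inv_mem hp).2 y hy, p.apply_symm_apply y⟩
      exact h1 y' hy'
  have hswap : ∀ p ∈ P, p ∉ P₁ → (∀ x ∈ U, p x ∈ U') ∧ ∀ x ∈ U', p x ∈ U := fun p hp hn =>
    (hperm p hp).resolve_left fun h1 => hn ⟨hp, h1.1⟩
  have hmul : ∀ a ∈ P, ∀ b ∈ P, a ∉ P₁ → b ∉ P₁ → a * b ∈ P₁ := fun a ha b hb hna hnb =>
    ⟨P.mul_mem ha hb, fun x hx => (hswap a ha hna).2 _ ((hswap b hb hnb).1 x hx)⟩
  -- the induced character
  obtain ⟨l, hl⟩ := mkLam hU
  have hlP : ∀ p ∈ P₁, ∀ (w : U) (hw : p (w : E) ∈ U), l ⟨p w, hw⟩ = l w := by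
    intro p hp w hw
    rw [hl, hl, nrm_map hU hU p (hPK p hp.1) w hw hp.2]
    rcases nrm_mem hfix hU w with e | e <;> simp [e, h.aut_z]
  let H : Subgroup (E ⋊[P₁.subtype] P₁) :=
    { carrier := {x | x.left ∈ U}
      one_mem' := U.one_mem
      mul_mem' := fun {a b} ha hb => U.mul_mem ha (a.right.2.2 _ hb)
      inv_mem' := fun {a} ha => (a⁻¹).right.2.2 _ (U.inv_mem ha) }
  let lH : H →* ℂˣ :=
    { toFun := fun x => l ⟨(x : E ⋊[P₁.subtype] P₁).left, x.2⟩
      map_one' := map_one l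
      map_mul' := fun a b => by
        have hb : ((a : E ⋊[P₁.subtype] P₁).right : MulAut E) (b : E ⋊[P₁.subtype] P₁).left ∈ U :=
          (a : E ⋊[P₁.subtype] P₁).right.2.2 _ b.2
        conv_rhs => rw [← hlP _ (a : E ⋊[P₁.subtype] P₁).right.2 ⟨_, b.2⟩ hb, ← map_mul]
        rfl }
  have : Finite (E ⋊[P₁.subtype] P₁) := Finite.of_equiv _ SemidirectProduct.equivProd.symm
  have := Fintype.ofFinite (E ⋊[P₁.subtype] P₁)
  have := Fintype.ofFinite H
  let χ : E ⋊[P₁.subtype] P₁ → ℂ := indFun H fun x => (lH x : ℂ)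
  have hcharH := CharCore.IsIrrCharacter.isCharacter (CharCore.isIrrCharacter_hom lH)
  have hHc : H.index = c := by
    have h1 := H.index_mul_card
    have h2 : Nat.card H = Nat.card U * Nat.card P₁ := by
      rw [← Nat.card_prod]
      exact Nat.card_congr ⟨fun x => (⟨_, x.2⟩, (x : E ⋊[P₁.subtype] P₁).right),
        fun y => ⟨⟨y.1, y.2⟩, y.1.2⟩, fun x => rfl, fun y => rfl⟩
    rw [h2, SemidirectProduct.card, hUc, ← hc] at h1
    have := Nat.card_pos (α := P₁)
    have hc' : 0 < c := Nat.pos_of_ne_zero fun e => hc0 (by simp [e])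
    exact Nat.eq_of_mul_eq_mul_right (show 0 < 2 * c * Nat.card P₁ by positivity)
      (by linear_combination h1)
  have hzH : (inl z : E ⋊[P₁.subtype] P₁) ∈ H := hU.zmem
  have hlz : lH ⟨inl z, hzH⟩ = -1 := by
    show l _ = -1
    rw [hl, nrm_z h hodd hU _ (Or.inr rfl)]
    exact if_neg h.ne
  have hzc : ∀ x : E ⋊[P₁.subtype] P₁, x⁻¹ * inl z * x = inl z := by
    intro x
    rw [mul_assoc, inv_mul_eq_iff_eq_mul]
    refine SemidirectProduct.ext ?_ (by simp)
    simp [h.central, h.aut_z]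
  have hχ : Good χ (inl z) c := by
    refine ⟨CharInd.isCharacter_indFun H hcharH, ?_, ?_⟩
    · show indFun H _ 1 = _
      rw [CharInd.indFun_apply_one, hHc, map_one, Units.val_one, mul_one]
    · show indFun H _ (inl z) = _
      rw [CharInd.indFun_apply, Finset.sum_congr rfl fun x _ => show
        extendByZero H (fun x => (lH x : ℂ)) (x⁻¹ * inl z * x) = -1 by
          rw [hzc, CharInd.extendByZero_mem _ hzH, hlz]; simp,
        Finset.sum_const, Finset.card_univ, nsmul_eq_mul, ← Nat.card_eq_fintype_card,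
        ← H.index_mul_card, hHc, Nat.cast_mul]
      field_simp
  refine hasExt_of_index_two h (P₁ := P₁) (fun p hp => hp.1) hmul hc hχ fun g hgP hgn hg x => ?_
  -- the swapped character has a common constituent with `χ`
  obtain ⟨hgU, hgU'⟩ := hswap g hgP hgn
  let χ' : E ⋊[P₁.subtype] P₁ → ℂ := fun y => χ (conjBy P₁ g hg y)
  have hχ' : Good χ' (inl z) c := by
    refine ⟨CharCore.isCharacter_comp hχ.1 _, (congrArg χ (map_one _)).trans hχ.2.1, ?_⟩
    show χ (conjBy P₁ g hg (inl z)) = _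
    rw [show conjBy P₁ g hg (inl z) = inl z from
      SemidirectProduct.ext (by simp [h.aut_z]) (Subtype.ext (by simp))]
    exact hχ.2.2
  suffices χ' = χ from congrFun this x
  by_contra hne'
  have h0 : classInner χ' χ = 0 := CharCore.classInner_irr_of_ne
    (χ := ⟨χ', h.isIrr_of_good inl inl_injective hχ' hc⟩)
    (ψ := ⟨χ, h.isIrr_of_good inl inl_injective hχ hc⟩) fun e => hne' (congrArg Subtype.val e)
  rw [show classInner χ' χ = _ from CharInd.classInner_indFun_right H _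
    (CharCore.IsCharacter.isClassFunction hχ'.1)] at h0
  have key : ∀ (y : H) (w : E ⋊[P₁.subtype] P₁),
      ∃ b : ℕ, extendByZero H (fun x => (lH x : ℂ))
        (w⁻¹ * conjBy P₁ g hg y * w) * conj ((lH y : ℂˣ) : ℂ) = b ∧ (y = 1 → w = 1 → b = 1) := by
    intro y w
    by_cases hm : w⁻¹ * conjBy P₁ g hg y * w ∈ H
    swap
    · refine ⟨0, by rw [CharInd.extendByZero_notMem _ hm, zero_mul, Nat.cast_zero], fun e1 e2 => ?_⟩
      subst e1 e2
      exact absurd (by simp [H.one_mem]) hm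
    refine ⟨1, ?_, fun _ _ => rfl⟩
    rw [CharInd.extendByZero_mem _ hm]
    obtain ⟨u, hu, v, hv, huv⟩ := hprod w.left⁻¹
    have hwl : w.left = v⁻¹ * u⁻¹ := by rw [← mul_inv_rev, ← huv, inv_inv]
    let t : E ⋊[P₁.subtype] P₁ := ⟨u⁻¹, w.right⟩
    have ht : t ∈ H := U.inv_mem hu
    have hwt : w = inl v⁻¹ * t :=
      SemidirectProduct.ext (by simp [t, hwl]) (by simp [t])
    set q := conjBy P₁ g hg (y : E ⋊[P₁.subtype] P₁) with hq
    have hm' : (inl v⁻¹ : E ⋊[P₁.subtype] P₁)⁻¹ * q * inl v⁻¹ ∈ H := by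
      have := H.mul_mem (H.mul_mem ht hm) (H.inv_mem ht)
      rw [hwt] at this
      simpa [mul_assoc] using this
    have hll : lH ⟨w⁻¹ * q * w, hm⟩ = lH ⟨_, hm'⟩ := by
      have : (⟨w⁻¹ * q * w, hm⟩ : H) = ⟨t, ht⟩⁻¹ * ⟨_, hm'⟩ * ⟨t, ht⟩ :=
        Subtype.ext (by simp [hwt, mul_assoc])
      rw [this, map_mul, map_mul, map_inv, mul_comm, ← mul_assoc, mul_inv_cancel, one_mul]
    rw [hll]
    have hyU : (y : E ⋊[P₁.subtype] P₁).left ∈ U := y.2
    have hql : q.left ∈ U' := by rw [hq, conjBy_left]; exact hgU _ hyU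
    have hqv : (q.right : MulAut E) v⁻¹ ∈ U' := hboth _ q.right.2 _ (U'.inv_mem hv)
    set e := ((inl v⁻¹ : E ⋊[P₁.subtype] P₁)⁻¹ * q * inl v⁻¹).left with he
    have hee : e = v * q.left * (q.right : MulAut E) v⁻¹ := by simp [he]
    have heU' : e ∈ U' := hee ▸ U'.mul_mem (U'.mul_mem hv hql) hqv
    have hez : e = 1 ∨ e = z := hinf e hm' heU'
    have hn1 : nrm hU' ⟨e, heU'⟩ = nrm hU ⟨_, hyU⟩ := by
      rw [show (⟨e, heU'⟩ : U') = ⟨v, hv⟩ * ⟨_, hql⟩ * ⟨_, hqv⟩ from Subtype.ext hee, map_mul,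
        map_mul, nrm_map hU' hU' _ (hPK _ q.right.2.1) ⟨v⁻¹, U'.inv_mem hv⟩ hqv
          (fun a ha => hboth _ q.right.2 a ha),
        show (⟨v⁻¹, U'.inv_mem hv⟩ : U') = ⟨v, hv⟩⁻¹ from rfl]
      have hgq : nrm hU' ⟨q.left, hql⟩ = nrm hU ⟨_, hyU⟩ := by
        have := nrm_map hU hU' g (hPK g hgP) ⟨_, hyU⟩ hql hgU
        rw [show (⟨q.left, hql⟩ : U') = ⟨g (y : E ⋊[P₁.subtype] P₁).left, hql⟩ from rfl, this]
        rcases nrm_mem hfix hU ⟨_, hyU⟩ with e' | e' <;> simp [e', h.aut_z]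
      rw [hgq]
      have hpz : ∀ a : E, (a = 1 ∨ a = z) → (q.right : MulAut E) a = a ∧ a * a = 1 ∧ a⁻¹ = a ∧
          ∀ b : E, a * b = b * a := by
        rintro a (rfl | rfl)
        · simp
        · exact ⟨h.aut_z _, h.sq, inv_eq_of_mul_eq_one_right h.sq, h.central⟩
      obtain ⟨-, ha2, hai, hac⟩ := hpz _ (nrm_mem hfix hU' ⟨v, hv⟩)
      rw [map_inv, hai, (hpz _ (nrm_mem hfix hU' ⟨v, hv⟩)).1, hac, mul_assoc, ha2, mul_one]
    rw [nrm_z h hodd hU' _ hez] at hn1
    have hlv : lH ⟨_, hm'⟩ = lH y := by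
      show l ⟨e, hm'⟩ = l ⟨_, hyU⟩
      rw [hl, hl, nrm_z h hodd hU _ hez]
      show (if e = 1 then _ else _) = _
      rw [← hn1]
    rw [hlv]
    show ((lH y : ℂˣ) : ℂ) * conj ((lH y : ℂˣ) : ℂ) = ((1 : ℕ) : ℂ)
    rw [Complex.mul_conj', CharCore.norm_hom_apply]
    norm_num
  choose b hb hb1 using key
  have hsum : classInner (fun y : H => χ' y) (fun x => (lH x : ℂ)) =
      (Nat.card H : ℂ)⁻¹ * ((Nat.card H : ℂ)⁻¹ * ((∑ y : H, ∑ w, b y w : ℕ) : ℂ)) := by
    simp only [classInner, χ', χ, CharInd.indFun_apply, Nat.cast_sum, Finset.mul_sum, Finset.sum_mul]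
    refine Finset.sum_congr rfl fun y _ => Finset.sum_congr rfl fun w _ => ?_
    rw [← hb y w]
    ring
  rw [hsum] at h0
  have hpos : 0 < ∑ y : H, ∑ w, b y w :=
    Finset.sum_pos' (fun _ _ => Nat.zero_le _) ⟨1, Finset.mem_univ _,
      Finset.sum_pos' (fun _ _ => Nat.zero_le _) ⟨1, Finset.mem_univ _, by rw [hb1 1 1 rfl rfl]; norm_num⟩⟩
  have hH0 : (Nat.card H : ℂ)⁻¹ ≠ 0 := inv_ne_zero (Nat.cast_ne_zero.mpr Nat.card_pos.ne')
  exact hpos.ne' (by exact_mod_cast (mul_eq_zero.mp ((mul_eq_zero.mp h0).resolve_left hH0)).resolve_left hH0)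

end Cfsg.Agent.XSExt
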