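import Cfsg.Agent.XSExt.Step

/-!
# The extension for a central product
-/

set_option autoImplicit false

open Cfsg SemidirectProduct

namespace Cfsg.Agent.XSExt

universe u

/-- The statement to be proved for one group. -/
def ExtProp (E : Type u) [Group E] : Prop :=
  ∀ (z : E), XS E z → ∀ (K P : Subgroup (MulAut E)), Odd (Nat.card K) → IsPGroup 2 P →
    (∀ p ∈ P, ∀ k : MulAut E, k ∈ K ↔ p * k * p⁻¹ ∈ K) →
    (∀ e, (∀ k ∈ K, k e = e) → e = 1 ∨ e = z) → HasExt z P.subtype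

variable {E : Type u} [Group E]

/-- Restriction of automorphisms to an invariant subgroup. -/
def resAut (S : Subgroup (MulAut E)) (A : Subgroup E) (hinv : ∀ s ∈ S, ∀ x ∈ A, s x ∈ A) :
    S →* MulAut A where
  toFun s :=
    { toFun := fun x => ⟨(s : MulAut E) x, hinv s s.2 x x.2⟩
      invFun := fun x => ⟨(s : MulAut E)⁻¹ x, hinv _ (S.inv_mem s.2) x x.2⟩
      left_inv := fun x => Subtype.ext (by simp)
      right_inv := fun x => Subtype.ext (by simp)
      map_mul' := fun x y => Subtype.ext (by simp) }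
  map_one' := by ext; rfl
  map_mul' _ _ := by ext; rfl

@[simp] theorem resAut_apply (S : Subgroup (MulAut E)) (A : Subgroup E) (hinv) (s : S) (x : A) :
    ((resAut S A hinv s x : A) : E) = (s : MulAut E) x := rfl

/-- A factor of a central product. -/
structure Factor (z : E) (K : Subgroup (MulAut E)) (A B : Subgroup E) : Prop where
  zA : z ∈ A
  commute : ∀ a ∈ A, ∀ b ∈ B, a * b = b * a
  prod : ∀ e, ∃ a ∈ A, ∃ b ∈ B, e = a * b
  inv : ∀ k ∈ K, ∀ x ∈ A, k x ∈ A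
  small : ∀ x ∈ A, x ∈ B → x = 1 ∨ x = z

variable {z : E} {K : Subgroup (MulAut E)} {A B : Subgroup E}

theorem Factor.xs (h : XS E z) (hA : Factor z K A B) : XS A (⟨z, hA.zA⟩ : A) where
  ne e := h.ne (congrArg Subtype.val e)
  sq := Subtype.ext h.sq
  central x := Subtype.ext (h.central x)
  comm x y := (h.comm x y).imp (fun e => Subtype.ext e) (fun e => Subtype.ext e)
  nondeg x hx := by
    refine (h.nondeg x fun y => ?_).imp (fun e => Subtype.ext e) (fun e => Subtype.ext e)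
    obtain ⟨a, ha, b, hb, rfl⟩ := hA.prod y
    have h1 : (x : E) * a = a * x := congrArg Subtype.val (hx ⟨a, ha⟩)
    rw [← mul_assoc, h1, mul_assoc, hA.commute x x.2 b hb, ← mul_assoc]
  sqMem x := (h.sqMem x).imp (fun e => Subtype.ext e) (fun e => Subtype.ext e)

theorem Factor.sub_hasExt [Finite E] (h : XS E z) (hA : Factor z K A B) (hext : ExtProp A)
    (hodd : Odd (Nat.card K)) (hfix : ∀ e, (∀ k ∈ K, k e = e) → e = 1 ∨ e = z)
    (P : Subgroup (MulAut E)) (hP : IsPGroup 2 P)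
    (hPK : ∀ p ∈ P, ∀ k : MulAut E, k ∈ K ↔ p * k * p⁻¹ ∈ K)
    (hPA : ∀ p ∈ P, ∀ x ∈ A, p x ∈ A) :
    HasExt (⟨z, hA.zA⟩ : A) (resAut P A hPA) := by
  let rK := resAut K A hA.inv
  let rP := resAut P A hPA
  have hKodd : Odd (Nat.card rK.range) :=
    hodd.of_dvd_nat (Subgroup.card_range_dvd rK)
  refine (hext _ (hA.xs h) rK.range rP.range hKodd
    (IsPGroup.of_surjective hP rP.rangeRestrict rP.rangeRestrict_surjective) ?_ ?_).comp
    rP.rangeRestrict (MonoidHom.ext fun _ => rfl)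
  · rintro _ ⟨p, rfl⟩ k
    constructor
    · rintro ⟨j, rfl⟩
      exact ⟨⟨p * j * (p : MulAut E)⁻¹, (hPK p p.2 j).mp j.2⟩, by ext x; rfl⟩
    · rintro ⟨j, hj⟩
      refine ⟨⟨(p : MulAut E)⁻¹ * j * p, (hPK p p.2 _).mpr (by simp [mul_assoc])⟩, ?_⟩
      have : k = (rP p)⁻¹ * rK j * rP p := by rw [hj]; group
      rw [this]
      ext x
      rfl
  · intro x hx
    exact (hfix x fun k hk => congrArg Subtype.val (hx (rK ⟨k, hk⟩) ⟨_, rfl⟩)).imp
      (fun e => Subtype.ext e) (fun e => Subtype.ext e)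

theorem product_hasExt [Finite E] (h : XS E z) (hodd : Odd (Nat.card K))
    (hfix : ∀ e, (∀ k ∈ K, k e = e) → e = 1 ∨ e = z)
    (P : Subgroup (MulAut E)) (hP : IsPGroup 2 P)
    (hPK : ∀ p ∈ P, ∀ k : MulAut E, k ∈ K ↔ p * k * p⁻¹ ∈ K)
    (hA : Factor z K A B) (hB : Factor z K B A) (hextA : ExtProp A) (hextB : ExtProp B)
    (hperm : ∀ p ∈ P, ((∀ x ∈ A, p x ∈ A) ∧ ∀ x ∈ B, p x ∈ B) ∨
      ((∀ x ∈ A, p x ∈ B) ∧ ∀ x ∈ B, p x ∈ A)) : HasExt z P.subtype := by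
  classical
  let P₁ : Subgroup (MulAut E) :=
    { carrier := {p | p ∈ P ∧ (∀ x ∈ A, p x ∈ A) ∧ ∀ x ∈ B, p x ∈ B}
      one_mem' := ⟨P.one_mem, fun x hx => hx, fun x hx => hx⟩
      mul_mem' := fun {a b} ha hb => ⟨P.mul_mem ha.1 hb.1, fun x hx => ha.2.1 _ (hb.2.1 x hx),
        fun x hx => ha.2.2 _ (hb.2.2 x hx)⟩
      inv_mem' := fun {a} ha => by
        have hm : ∀ S : Subgroup E, (∀ x ∈ S, a x ∈ S) → ∀ x ∈ S, a⁻¹ x ∈ S := fun S hS x hx => by
          have hm : S.map a.toMonoidHom = S := Subgroup.eq_of_le_of_card_ge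
            (by rintro _ ⟨y, hy, rfl⟩; exact hS y hy)
            (Nat.card_congr (S.equivMapOfInjective _ a.injective).toEquiv).le
          rw [← hm] at hx
          obtain ⟨y, hy, rfl⟩ := hx
          simpa using hy
        exact ⟨P.inv_mem ha.1, hm A ha.2.1, hm B ha.2.2⟩ }
  have hP1 : P₁ ≤ P := fun p hp => hp.1
  have hswap : ∀ p ∈ P, p ∉ P₁ → (∀ x ∈ A, p x ∈ B) ∧ ∀ x ∈ B, p x ∈ A := fun p hp hn =>
    (hperm p hp).resolve_left fun h1 => hn ⟨hp, h1⟩
  have hmul : ∀ a ∈ P, ∀ b ∈ P, a ∉ P₁ → b ∉ P₁ → a * b ∈ P₁ := fun a ha b hb hna hnb =>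
    ⟨P.mul_mem ha hb, fun x hx => (hswap a ha hna).2 _ ((hswap b hb hnb).1 x hx),
      fun x hx => (hswap a ha hna).1 _ ((hswap b hb hnb).2 x hx)⟩
  let aA := resAut P₁ A fun p hp => hp.2.1
  let aB := resAut P₁ B fun p hp => hp.2.2
  have hP1K : ∀ p ∈ P₁, ∀ k : MulAut E, k ∈ K ↔ p * k * p⁻¹ ∈ K := fun p hp => hPK p hp.1
  obtain ⟨χA, cA, hcA, hχA⟩ := hA.sub_hasExt h hextA hodd hfix P₁ (hP.to_le hP1) hP1K
    fun p hp => hp.2.1
  -- the character of the second factor, with its symmetry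
  obtain ⟨χB, cB, hcB, hχB, hsym⟩ : ∃ (χB : B ⋊[aB] P₁ → ℂ) (cB : ℕ),
      cB * cB * 2 = Nat.card B ∧ Good χB (inl ⟨z, hB.zA⟩) cB ∧
      ((∀ p ∈ P, p ∈ P₁) ∨ ∃ g ∈ P, g ∉ P₁ ∧ ∀ (x : B ⋊[aB] P₁) (y : A ⋊[aA] P₁),
        (y.left : E) = g x.left → (y.right : MulAut E) = g * x.right * g⁻¹ → χB x = χA y) := by
    by_cases hall : ∀ p ∈ P, p ∈ P₁
    · obtain ⟨χB, cB, hcB, hχB⟩ := hB.sub_hasExt h hextB hodd hfix P₁ (hP.to_le hP1) hP1K
        fun p hp => hp.2.2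
      exact ⟨χB, cB, hcB, hχB, Or.inl hall⟩
    push Not at hall
    obtain ⟨g, hg, hgn⟩ := hall
    obtain ⟨hgA, hgB⟩ := hswap g hg hgn
    have hgP1 : ∀ y ∈ P₁, g * y * g⁻¹ ∈ P₁ := fun v hv => by
      refine hmul _ (P.mul_mem hg hv.1) _ (P.inv_mem hg) (fun hh => ?_) (by simpa using hgn)
      exact hgn (by simpa using P₁.mul_mem hh (P₁.inv_mem hv))
    let fg : B →* A := (g.toMonoidHom.comp B.subtype).codRestrict A fun x => hgB x x.2
    let fp : P₁ →* P₁ :=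
      ((MulAut.conj g).toMonoidHom.comp P₁.subtype).codRestrict P₁ fun y => hgP1 y y.2
    let τ : B ⋊[aB] P₁ →* A ⋊[aA] P₁ := SemidirectProduct.map fg fp fun p => by
      ext x
      simp [fg, fp, aA, aB]
    refine ⟨fun x => χA (τ x), cA, ?_, ⟨CharCore.isCharacter_comp hχA.1 τ,
      (congrArg χA (map_one τ)).trans hχA.2.1, ?_⟩, Or.inr ⟨g, hg, hgn, fun x y h1 h2 => ?_⟩⟩
    · rw [hcA]
      refine Nat.card_eq_of_bijective (fun x : A => (⟨g x, hgA x x.2⟩ : B))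
        ⟨fun a b e => Subtype.ext (g.injective (congrArg Subtype.val e :)), fun b => ?_⟩
      obtain ⟨a, ha, b', hb', he⟩ := hA.prod (g⁻¹ (b : E))
      have hgb : g b' ∈ B := by
        have h1 : g a * g b' = b := by rw [← map_mul, ← he]; simp
        rw [eq_inv_mul_of_mul_eq h1]
        exact B.mul_mem (B.inv_mem (hgA a ha)) b.2
      have hb'A : b' ∈ A := by
        rcases hB.small _ hgb (hgB b' hb') with e | e
        · rw [g.injective (e.trans (map_one g).symm)]; exact A.one_mem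
        · rw [g.injective (e.trans (h.aut_z g).symm)]; exact hA.zA
      refine ⟨⟨a * b', A.mul_mem ha hb'A⟩, Subtype.ext ?_⟩
      show g (a * b') = b
      rw [← he]; simp
    · show χA (τ (inl _)) = _
      rw [show τ (inl ⟨z, hB.zA⟩) = inl ⟨z, hA.zA⟩ from SemidirectProduct.ext
        (Subtype.ext (by simp [τ, fg, h.aut_z])) (by simp [τ])]
      exact hχA.2.2
    · show χA (τ x) = χA y
      rw [show τ x = y from SemidirectProduct.ext (Subtype.ext (by simp [τ, fg, h1]))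
        (Subtype.ext (by simp [τ, fp, h2]))]
  -- the product
  let act : P₁ →* MulAut (A × B) :=
    { toFun := fun p => MulEquiv.prodCongr (aA p) (aB p)
      map_one' := MulEquiv.ext fun x =>
        Prod.ext (DFunLike.congr_fun (map_one aA) x.1) (DFunLike.congr_fun (map_one aB) x.2)
      map_mul' := fun p q => MulEquiv.ext fun x =>
        Prod.ext (DFunLike.congr_fun (map_mul aA p q) x.1) (DFunLike.congr_fun (map_mul aB p q) x.2) }
  let mu : A × B →* E :=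
    A.subtype.noncommCoprod B.subtype fun a b => hA.commute a a.2 b b.2
  have hmu : ∀ x : A × B, mu x = (x.1 : E) * x.2 := fun x => rfl
  have hker : ∀ x : A × B, mu x = 1 → x = 1 ∨ x = (⟨z, hA.zA⟩, ⟨z, hB.zA⟩) := by
    intro x hx
    rw [hmu] at hx
    have h1 : (x.2 : E) = (x.1 : E)⁻¹ := (inv_eq_of_mul_eq_one_right hx).symm
    rcases hA.small x.1 x.1.2 (by rw [← inv_inv (x.1 : E), ← h1]; exact B.inv_mem x.2.2) with e | e
    · exact Or.inl (Prod.ext (Subtype.ext e) (Subtype.ext (by simp [h1, e])))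
    · exact Or.inr (Prod.ext (Subtype.ext e)
        (Subtype.ext (by simp [h1, e, inv_eq_of_mul_eq_one_right h.sq])))
  have hmus : Function.Surjective mu := fun e => by
    obtain ⟨a, ha, b, hb, rfl⟩ := hA.prod e
    exact ⟨(⟨a, ha⟩, ⟨b, hb⟩), rfl⟩
  have hcard : Nat.card A * Nat.card B = 2 * Nat.card E := by
    rw [← Nat.card_prod, ← mu.ker.card_mul_index]
    congr 1
    · have hset : (mu.ker : Set (A × B)) = {1, (⟨z, hA.zA⟩, ⟨z, hB.zA⟩)} := by
        ext x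
        refine ⟨hker x, ?_⟩
        rintro (rfl | rfl)
        · exact mu.ker.one_mem
        · exact h.sq
      rw [← SetLike.coe_sort_coe, hset, Nat.card_coe_set_eq, Set.ncard_pair]
      exact fun e => h.ne (congrArg (fun x : A × B => (x.1 : E)) e).symm
    · rw [Subgroup.index_ker, MonoidHom.range_eq_top.mpr hmus, Subgroup.card_top]
  let π : (A × B) ⋊[act] P₁ →* E ⋊[P₁.subtype] P₁ :=
    SemidirectProduct.map mu (MonoidHom.id _) fun p => MonoidHom.ext fun x =>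
      (map_mul (p : MulAut E) (x.1 : E) (x.2 : E)).symm
  let pA : (A × B) ⋊[act] P₁ →* A ⋊[aA] P₁ :=
    SemidirectProduct.map (MonoidHom.fst A B) (MonoidHom.id _) fun p => MonoidHom.ext fun x => rfl
  let pB : (A × B) ⋊[act] P₁ →* B ⋊[aB] P₁ :=
    SemidirectProduct.map (MonoidHom.snd A B) (MonoidHom.id _) fun p => MonoidHom.ext fun x => rfl
  have : Finite ((A × B) ⋊[act] P₁) := Finite.of_equiv _ SemidirectProduct.equivProd.symm
  let f : (A × B) ⋊[act] P₁ → ℂ := fun w => χA (pA w) * χB (pB w)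
  have hf : IsCharacter _ f := CharCore.isCharacter_mul (CharCore.isCharacter_comp hχA.1 pA)
    (CharCore.isCharacter_comp hχB.1 pB)
  have hπs : Function.Surjective π := fun y => by
    obtain ⟨x, hx⟩ := hmus y.left
    exact ⟨⟨x, y.right⟩, SemidirectProduct.ext hx rfl⟩
  have hf1 : f 1 = (cA : ℂ) * cB := by
    show χA (pA 1) * χB (pB 1) = _
    rw [map_one, map_one, hχA.2.1, hχB.2.1]
  have hzz : f (inl (⟨z, hA.zA⟩, ⟨z, hB.zA⟩)) = (cA : ℂ) * cB := by
    show χA (pA _) * χB (pB _) = _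
    simp only [pA, pB, map_inl, MonoidHom.coe_fst, MonoidHom.coe_snd, hχA.2.2, hχB.2.2]
    ring
  obtain ⟨ψ, hψ, -, hψe⟩ := CharCore.IsCharacter.exists_quotient hf π.ker fun w hw => by
    have hw' : π w = 1 := hw
    have hl : mu w.left = 1 := congrArg SemidirectProduct.left hw'
    have hr : w.right = 1 := (congrArg SemidirectProduct.right hw' :)
    rcases hker _ hl with e | e
    · rw [show w = 1 from SemidirectProduct.ext e hr]
    · rw [show w = inl (⟨z, hA.zA⟩, ⟨z, hB.zA⟩) from SemidirectProduct.ext e hr, hzz, hf1]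
  let eq' := QuotientGroup.quotientKerEquivOfSurjective π hπs
  let χ : E ⋊[P₁.subtype] P₁ → ℂ := fun y => ψ (eq'.symm y)
  have hχval : ∀ w, χ (π w) = f w := fun w => by
    show ψ (eq'.symm (π w)) = _
    rw [hψe w]
    congr 1
    exact eq'.symm_apply_eq.mpr rfl
  have hχ : Good χ (inl z) (cA * cB) := by
    refine ⟨CharCore.isCharacter_comp hψ eq'.symm.toMonoidHom, ?_, ?_⟩
    · rw [← map_one π, hχval, hf1, Nat.cast_mul]
    · rw [show inl z = π (inl (⟨z, hA.zA⟩, 1)) from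
        SemidirectProduct.ext (by simp [π, hmu]) rfl, hχval]
      show χA (pA _) * χB (pB _) = _
      simp only [pA, pB, map_inl, MonoidHom.coe_fst, MonoidHom.coe_snd, hχA.2.2, map_one, hχB.2.1]
      push_cast
      ring
  have hc : cA * cB * (cA * cB) * 2 = Nat.card E :=
    Nat.eq_of_mul_eq_mul_left (show 0 < 2 by norm_num)
      (by rw [← hcard, ← hcA, ← hcB]; ring)
  refine hasExt_of_index_two h hP1 hmul hc hχ fun g hgP hgn hg x => ?_
  rcases hsym with hall | ⟨g₀, hg₀, hg₀n, hsym⟩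
  · exact absurd (hall g hgP) hgn
  have hg₀P : ∀ y ∈ P₁, g₀ * y * g₀⁻¹ ∈ P₁ := fun v hv => by
    refine hmul _ (P.mul_mem hg₀ hv.1) _ (P.inv_mem hg₀) (fun hh => ?_) (by simpa using hg₀n)
    exact hg₀n (by simpa using P₁.mul_mem hh (P₁.inv_mem hv))
  have hinv₀ : ∀ y, χ (conjBy P₁ g₀ hg₀P y) = χ y := by
    intro y
    obtain ⟨w, rfl⟩ := hπs y
    obtain ⟨hgA, hgB⟩ := hswap g₀ hg₀ hg₀n
    obtain ⟨⟨a, b⟩, p⟩ := w
    let p' : P₁ := ⟨g₀ * (p : MulAut E) * g₀⁻¹, hg₀P p p.2⟩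
    let w' : (A × B) ⋊[act] P₁ := ⟨(⟨g₀ b, hgB b b.2⟩, ⟨g₀ a, hgA a a.2⟩), p'⟩
    have hw' : conjBy P₁ g₀ hg₀P (π ⟨(a, b), p⟩) = π w' := by
      refine SemidirectProduct.ext ?_ (Subtype.ext ?_)
      · simp [π, w', hmu, map_mul]
        exact hB.commute _ (hgA a a.2) _ (hgB b b.2)
      · simp [π, w', p']
    rw [hw', hχval, hχval]
    have hsq : g₀ * g₀ ∈ P₁ := hmul _ hg₀ _ hg₀ hg₀n hg₀n
    let u : A ⋊[aA] P₁ := inr ⟨g₀ * g₀, hsq⟩
    have h1 : χB (pB w') = χA (pA ⟨(a, b), p⟩) := by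
      rw [hsym (pB w') (u * pA ⟨(a, b), p⟩ * u⁻¹)]
      · exact CharCore.IsCharacter.isClassFunction hχA.1 _ _
      · simp [u, pA, pB, w', aA, mul_left, mul_right]
      · simp [u, pA, pB, w', p', mul_assoc]
    have h2 : χB (pB ⟨(a, b), p⟩) = χA (pA w') := hsym _ _ (by simp [pA, pB, w'])
      (by simp [pA, pB, w', p'])
    show χA (pA w') * χB (pB w') = χA (pA ⟨(a, b), p⟩) * χB (pB ⟨(a, b), p⟩)
    rw [h1, h2, mul_comm]
  have hr : g₀⁻¹ * g ∈ P₁ := hmul _ (P.inv_mem hg₀) _ hgP (by simpa using hg₀n) hgn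
  have hx : conjBy P₁ g hg x = conjBy P₁ g₀ hg₀P (inr ⟨_, hr⟩ * x * (inr ⟨_, hr⟩)⁻¹) := by
    refine SemidirectProduct.ext ?_ (Subtype.ext ?_)
    · simp
    · simp [mul_assoc]
  rw [hx, hinv₀]
  exact CharCore.IsCharacter.isClassFunction hχ.1 _ _

end Cfsg.Agent.XSExt
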