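import Cfsg.Agent.XSExt.Alg
import Cfsg.Agent.XSExt.Lift
import Cfsg.Agent.XSExt.FieldMain
import Cfsg.Agent.XSExt.Pair
import Cfsg.Agent.XSExt.Product

/-!
# Extension of the faithful character over a two-group normalising an odd group without fixed points
-/

set_option autoImplicit false
set_option linter.style.haveILetI false

open Cfsg SemidirectProduct

namespace Cfsg.Agent.XSExt

universe u

variable {E : Type u} [Group E] [Finite E] {z : E}

theorem hasExt_trivial (h : XS E z) (hsmall : ∀ e : E, e = 1 ∨ e = z) (P : Subgroup (MulAut E)) :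
    HasExt z P.subtype := by
  classical
  have hp : ∀ (p : MulAut E) (e : E), p e = e := fun p e => by
    rcases hsmall e with rfl | rfl
    · exact map_one p
    · exact h.aut_z p
  let s : E →* ℂˣ :=
    { toFun := fun e => if e = 1 then 1 else -1
      map_one' := if_pos rfl
      map_mul' := fun a b => by
        rcases hsmall a with ea | ea <;> rcases hsmall b with eb | eb <;>
          simp [ea, eb, h.sq, h.ne] }
  let S : E ⋊[P.subtype] P →* ℂˣ := SemidirectProduct.lift s 1 fun g => MonoidHom.ext fun e => by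
    simp [hp]
  refine ⟨fun x => (S x : ℂ), 1, ?_,
    CharCore.IsIrrCharacter.isCharacter (CharCore.isIrrCharacter_hom S), by simp, ?_⟩
  · rw [Nat.card_eq_two_iff' (1 : E) |>.mpr ⟨z, h.ne, fun y hy => (hsmall y).resolve_left hy⟩]
  · simp [S, s, h.ne]

/-- A subspace as a subgroup. -/
def preim (h : XS E z) :
    letI := h.addCommGroup
    letI := h.module
    Submodule (ZMod 2) (Sp E) → Subgroup E :=
  letI := h.addCommGroup
  letI := h.module
  fun A =>
    { carrier := {x | pr x ∈ A}
      one_mem' := A.zero_mem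
      mul_mem' := fun {a b} ha hb => A.add_mem ha hb
      inv_mem' := fun {a} ha => A.neg_mem ha }

theorem extProp (E : Type u) [Group E] [Finite E] : ExtProp E := by
  induction hn : Nat.card E using Nat.strong_induction_on generalizing E with
  | _ n ih =>
  subst hn
  intro z h K P hodd hP hPK hfix
  classical
  by_cases hsmall : ∀ e : E, e = 1 ∨ e = z
  · exact hasExt_trivial h hsmall P
  letI := h.addCommGroup
  letI := h.module
  push Not at hsmall
  obtain ⟨e₁, he1, he1'⟩ := hsmall
  have hpr0 : ∀ {x : E}, pr x = (0 : Sp E) ↔ x = 1 ∨ x = z := fun {x} => pr_eq_zero h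
  haveI : Nontrivial (Sp E) := ⟨⟨pr e₁, 0, fun e => (hpr0.mp e).elim he1 he1'⟩⟩
  haveI : Finite (Sp E) := Finite.of_surjective _ pr_surjective
  let ρ : Representation (ZMod 2) K (Sp E) :=
    { toFun := fun k => AddMonoidHom.toZModLinearMap 2 (indMap (k : MulAut E))
      map_one' := LinearMap.ext fun v => indMap_one v
      map_mul' := fun a b => LinearMap.ext fun v => indMap_mul (a : MulAut E) b v }
  have hρ : ∀ (k : K) x, ρ k (pr x) = pr ((k : MulAut E) x) := fun k x => rfl
  have haut : ∀ (α : MulAut E) (x y : E), cform (α x) (α y) = cform x y := fun α x y => by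
    have : α x * α y = α y * α x ↔ x * y = y * x := by rw [← map_mul, ← map_mul, α.injective.eq_iff]
    unfold cform
    simp only [this]
  have hfixV : ∀ v : Sp E, (∀ k, ρ k v = v) → v = 0 := by
    intro v hv
    obtain ⟨x, rfl⟩ := pr_surjective v
    refine hpr0.mpr (hfix x fun k hk => ?_)
    have hkx : ∀ n : ℕ, pr ((k ^ n) x) = pr x := by
      intro n
      induction n with
      | zero => rfl
      | succ n ihn => rw [pow_succ', MulAut.mul_apply, ← indMap_pr, ihn]; exact hv ⟨k, hk⟩
    rcases (pr_eq h).mp (hv ⟨k, hk⟩) with e | e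
    · exact e.symm
    · exfalso
      have e' : k x = x * z := by
        have := congrArg (fun w => w * z) e
        simp only [mul_assoc, h.sq, mul_one] at this
        exact this.symm
      have hit : ∀ n : ℕ, (k ^ n) x = x * z ^ n := by
        intro n
        induction n with
        | zero => simp
        | succ n ihn =>
          rw [pow_succ' k, MulAut.mul_apply, ihn, map_mul, map_pow, h.aut_z, e', pow_succ',
            mul_assoc]
      have h1 := hit (Nat.card K)
      rw [show k ^ Nat.card K = 1 from congrArg Subtype.val (pow_card_eq_one' (x := (⟨k, hk⟩ : K))),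
        MulAut.one_apply, left_eq_mul] at h1
      obtain ⟨m, hm⟩ := hodd
      rw [hm, pow_succ, pow_mul, pow_two, h.sq, one_pow, one_mul] at h1
      exact h.ne h1
  let c : P →* MulAut K :=
    { toFun := fun p =>
        { toFun := fun k => ⟨(p : MulAut E) * k * (p : MulAut E)⁻¹, (hPK p p.2 _).mp k.2⟩
          invFun := fun k => ⟨(p : MulAut E)⁻¹ * k * p,
            (hPK p p.2 ((p : MulAut E)⁻¹ * (k : MulAut E) * p)).mpr (by simp [mul_assoc])⟩
          left_inv := fun k => Subtype.ext (by simp [mul_assoc])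
          right_inv := fun k => Subtype.ext (by simp [mul_assoc])
          map_mul' := fun a b => Subtype.ext (by simp [mul_assoc]) }
      map_one' := MulEquiv.ext fun k => Subtype.ext (by simp)
      map_mul' := fun p q => MulEquiv.ext fun k => Subtype.ext (by simp [mul_assoc]) }
  let τ : P → (Sp E ≃ₗ[ZMod 2] Sp E) := fun p =>
    LinearEquiv.ofLinear (AddMonoidHom.toZModLinearMap 2 (indMap (p : MulAut E)))
      (AddMonoidHom.toZModLinearMap 2 (indMap (p : MulAut E)⁻¹))
      (LinearMap.ext fun v => by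
        show indMap _ (indMap _ v) = v
        rw [← indMap_mul, mul_inv_cancel, indMap_one])
      (LinearMap.ext fun v => by
        show indMap _ (indMap _ v) = v
        rw [← indMap_mul, inv_mul_cancel, indMap_one])
  have hτ : ∀ (p : P) (k : K) v, τ p (ρ k v) = ρ (c p k) (τ p v) := fun p k v => by
    show indMap _ (indMap _ v) = indMap _ (indMap _ v)
    rw [← indMap_mul, ← indMap_mul,
      show ((c p k : K) : MulAut E) * p = (p : MulAut E) * k from inv_mul_cancel_right _ _]
  have hbK : ∀ (k : K) v w, h.form (ρ k v) (ρ k w) = h.form v w := fun k v w => by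
    obtain ⟨x, rfl⟩ := pr_surjective v
    obtain ⟨y, rfl⟩ := pr_surjective w
    rw [hρ, hρ, h.form_pr, h.form_pr, haut]
  have hmem : ∀ (A : Submodule (ZMod 2) (Sp E)) (x : E), x ∈ preim h A ↔ pr x ∈ A :=
    fun A x => Iff.rfl
  have hzA : ∀ A : Submodule (ZMod 2) (Sp E), z ∈ preim h A := fun A =>
    (hmem A z).mpr (by rw [hpr0.mpr (Or.inr rfl)]; exact A.zero_mem)
  have hsplit : ∀ A A' : Submodule (ZMod 2) (Sp E), IsCompl A A' →
      (∀ e, ∃ a ∈ preim h A, ∃ b ∈ preim h A', e = a * b) ∧
      ∀ x ∈ preim h A, x ∈ preim h A' → x = 1 ∨ x = z := by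
    intro A A' hc
    refine ⟨fun e => ?_, fun x hx hx' => hpr0.mp (Submodule.disjoint_def.mp hc.disjoint _ hx hx')⟩
    obtain ⟨u, hu, v, hv, huv⟩ := Submodule.mem_sup.mp (hc.sup_eq_top ▸ Submodule.mem_top (x := pr e))
    obtain ⟨a, rfl⟩ := pr_surjective u
    obtain ⟨b, rfl⟩ := pr_surjective v
    refine ⟨a, hu, a⁻¹ * e, (hmem _ _).mpr ?_, (mul_inv_cancel_left a e).symm⟩
    have h1 : pr (a⁻¹ * e) = -pr a + pr e := rfl
    rw [h1, ← huv, neg_add_cancel_left]
    exact hv
  have hpermS : ∀ (A A' : Submodule (ZMod 2) (Sp E)) (p : P),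
      (∀ a ∈ A, τ p a ∈ A') → ∀ x ∈ preim h A, (p : MulAut E) x ∈ preim h A' :=
    fun A A' p hA x hx => hA (pr x) hx
  have hKS : ∀ (A : Submodule (ZMod 2) (Sp E)), (∀ k, ∀ a ∈ A, ρ k a ∈ A) →
      ∀ k ∈ K, ∀ x ∈ preim h A, k x ∈ preim h A := fun A hA k hk x hx => hA ⟨k, hk⟩ (pr x) hx
  have hcomm : ∀ x y : E, h.form (pr x) (pr y) = 0 → x * y = y * x := fun x y e =>
    (cform_eq_zero x y).mp (by rw [← h.form_pr]; exact e)
  rcases module_trichotomy hodd ρ h.form hbK hfixV hP c τ hτ with
    ⟨A, A', hA0, hA0', hc, horth, hKinv, hperm⟩ | ⟨A, A', hc, hiso, hiso', hKinv, hperm⟩ |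
      ⟨t, r, hr, hr2, htr, htk, htb, htfix, htp⟩
  · have horth' : ∀ a ∈ A', ∀ a' ∈ A, h.form a a' = 0 := fun a ha a' ha' => by
      obtain ⟨x, rfl⟩ := pr_surjective a
      obtain ⟨y, rfl⟩ := pr_surjective a'
      rw [h.form_pr, cform_comm, ← h.form_pr]
      exact horth _ ha' _ ha
    obtain ⟨hprod, hinf⟩ := hsplit A A' hc
    obtain ⟨hprod', hinf'⟩ := hsplit A' A hc.symm
    have hlt : ∀ B B' : Submodule (ZMod 2) (Sp E), IsCompl B B' → B' ≠ ⊥ →
        Nat.card (preim h B) < Nat.card E := by
      intro B B' hBB hB'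
      refine lt_of_le_of_ne (Subgroup.card_le_card_group _) fun e => hB' ?_
      have htop : preim h B = ⊤ := Subgroup.eq_top_of_card_eq _ e
      have : B = ⊤ := Submodule.eq_top_iff'.mpr fun v => by
        obtain ⟨x, rfl⟩ := pr_surjective v
        exact (hmem B x).mp (htop ▸ Subgroup.mem_top x)
      rw [this] at hBB
      simpa using hBB.inf_eq_bot
    refine product_hasExt (A := preim h A) (B := preim h A') h hodd hfix P hP hPK
      ⟨hzA A, fun a ha b hb => hcomm a b (horth _ ha _ hb), hprod,
        hKS A fun k => (hKinv k).1, hinf⟩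
      ⟨hzA A', fun a ha b hb => hcomm a b (horth' _ ha _ hb), hprod',
        hKS A' fun k => (hKinv k).2, hinf'⟩
      (ih _ (hlt A A' hc hA0') _ rfl) (ih _ (hlt A' A hc.symm hA0) _ rfl) fun p hp => ?_
    exact (hperm ⟨p, hp⟩).imp (fun e => ⟨hpermS A A ⟨p, hp⟩ e.1, hpermS A' A' ⟨p, hp⟩ e.2⟩)
      fun e => ⟨hpermS A A' ⟨p, hp⟩ e.1, hpermS A' A ⟨p, hp⟩ e.2⟩
  · obtain ⟨hprod, hinf⟩ := hsplit A A' hc
    refine pair_hasExt h hodd hfix P hPK (preim h A) (preim h A')
      ⟨fun a ha b hb => hcomm a b (hiso _ ha _ hb), hzA A, hKS A fun k => (hKinv k).1⟩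
      ⟨fun a ha b hb => hcomm a b (hiso' _ ha _ hb), hzA A', hKS A' fun k => (hKinv k).2⟩
      (fun e => ?_) hinf hprod fun p hp => ?_
    · have hAA : A = A' := Submodule.ext fun v => by
        obtain ⟨x, rfl⟩ := pr_surjective v
        rw [← hmem, ← hmem, e]
      rw [← hAA] at hc
      obtain ⟨v, hv⟩ := exists_ne (0 : Sp E)
      have : A = ⊥ := disjoint_self.mp hc.disjoint
      have h2 := hc.sup_eq_top
      rw [this, sup_idem] at h2
      exact hv (Submodule.mem_bot (ZMod 2) |>.mp (h2 ▸ Submodule.mem_top))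
    exact (hperm ⟨p, hp⟩).imp (fun e => ⟨hpermS A A ⟨p, hp⟩ e.1, hpermS A' A' ⟨p, hp⟩ e.2⟩)
      fun e => ⟨hpermS A A' ⟨p, hp⟩ e.1, hpermS A' A ⟨p, hp⟩ e.2⟩
  · have htinj : Function.Injective t := fun v w e => by
      have h1 : ∀ u, (t ^ r) u = (t ^ (r - 1)) (t u) := fun u => by
        rw [← Module.End.mul_apply, ← pow_succ, Nat.sub_add_cancel hr.one_le]
      have hv := h1 v
      rw [e, ← h1 w, htr, Module.End.one_apply, Module.End.one_apply] at hv
      exact hv
    obtain ⟨φ, hφK, hφt⟩ := exists_lift h K hodd hfix t (Finite.injective_iff_bijective.mp htinj)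
      (fun x y x' y' hx hy => ⟨by
          show pr x' + pr y' = t (pr x + pr y)
          rw [map_add, hx, hy],
        by rw [← h.form_pr, hx, hy, htb, h.form_pr]⟩)
      (fun k hk v => htk ⟨k, hk⟩ v)
    have hpowt : ∀ (n : ℕ) x, pr ((φ ^ n) x) = (t ^ n) (pr x) := by
      intro n
      induction n with
      | zero => intro x; rfl
      | succ n ihn =>
        intro x
        rw [pow_succ', MulAut.mul_apply, hφt, ihn, pow_succ', Module.End.mul_apply]
    have hord : orderOf φ = r := by
      haveI : Fact r.Prime := ⟨hr⟩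
      refine orderOf_eq_prime ?_ ?_
      · refine aut_ext h K hodd hfix (fun k hk => (Commute.pow_left (hφK k hk) r).eq)
          (fun k hk => by rw [one_mul, mul_one]) fun x => ?_
        rw [hpowt, htr]; rfl
      · intro e
        obtain ⟨v, hv⟩ := exists_ne (0 : Sp E)
        obtain ⟨x, rfl⟩ := pr_surjective v
        exact hv (htfix _ (by rw [← hφt, e]; rfl))
    have hnorm : P ≤ Subgroup.normalizer (Subgroup.zpowers φ : Set (MulAut E)) := by
      have hconj : ∀ p ∈ P, p * φ * p⁻¹ ∈ Subgroup.zpowers φ := by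
        intro p hp
        obtain ⟨i, hi⟩ := htp ⟨p, hp⟩
        have e : p * φ * p⁻¹ = φ ^ i := by
          refine aut_ext h K hodd hfix (fun k hk => ?_)
            (fun k hk => (Commute.pow_left (hφK k hk) i).eq) fun x => ?_
          · have hk' : p⁻¹ * k * p ∈ K := (hPK p hp _).mpr (by simpa [mul_assoc] using hk)
            calc p * φ * p⁻¹ * k = p * (φ * (p⁻¹ * k * p)) * p⁻¹ := by group
              _ = p * ((p⁻¹ * k * p) * φ) * p⁻¹ := by rw [hφK _ hk']
              _ = k * (p * φ * p⁻¹) := by group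
          · rw [hpowt, MulAut.mul_apply, MulAut.mul_apply]
            have := hi (pr (p⁻¹ x))
            rw [← hφt] at this
            refine this.trans ?_
            show (t ^ i) (pr (p (p⁻¹ x))) = _
            rw [MulAut.apply_inv_self]
        rw [e]
        exact pow_mem (Subgroup.mem_zpowers φ) i
      intro p hp
      refine Subgroup.mem_normalizer_iff.mpr fun y => ⟨?_, ?_⟩
      · rintro hy
        obtain ⟨i, rfl⟩ := Subgroup.mem_zpowers_iff.mp hy
        rw [← conj_zpow]
        exact zpow_mem (hconj p hp) i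
      · intro hy
        obtain ⟨i, hi⟩ := Subgroup.mem_zpowers_iff.mp hy
        have : y = (p⁻¹ * φ * p) ^ i := by
          have := conj_zpow (i := i) (a := p⁻¹) (b := φ)
          rw [inv_inv] at this
          rw [this, hi]; group
        rw [this]
        refine zpow_mem ?_ i
        simpa using hconj p⁻¹ (P.inv_mem hp)
    obtain ⟨θ, c', -, -, hc'⟩ := h.exists_good
    exact field_hasExt h (hord ▸ hr) (hord ▸ hr2) (fun e he => hpr0.mp
      (htfix _ (by rw [← hφt, he]))) hc' P hP hnorm

end Cfsg.Agent.XSExt
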