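import Mathlib.RepresentationTheory.Basic
import Mathlib.Algebra.MonoidAlgebra.Basic
import Mathlib.GroupTheory.PGroup
import Mathlib.GroupTheory.Sylow
import Mathlib.RingTheory.RootsOfUnity.PrimitiveRoots
import Mathlib.RingTheory.Ideal.Quotient.Operations
import Mathlib.Data.Finsupp.Fintype
import Mathlib.Tactic.LinearCombination
import Mathlib.Tactic.Abel
import Mathlib.Tactic.Ring

/-!
# Fixed-point-free symplectic modules of odd order groups over the field with two elements

Such a module, with a two-group permuting the acting group, either splits orthogonally, or splits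
into two totally isotropic halves, or has a fixed-point-free isometry of odd prime order commuting
with the group and normalised by the two-group.  Only the centre of the group algebra is used.
-/

set_option autoImplicit false

namespace Cfsg.Agent.XSExt

open scoped MonoidAlgebra

variable {K : Type*} [Group K] [Finite K]

/-- The group algebra over the field with two elements. -/
abbrev MK (K : Type*) : Type _ := MonoidAlgebra (ZMod 2) K

omit [Finite K] in
theorem zmod_two_cases (a : ZMod 2) : a = 0 ∨ a = 1 := by revert a; decide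

omit [Finite K] in
theorem mk_single_cases (a : K) (r : ZMod 2) :
    (MonoidAlgebra.single a r : MK K) = 0 ∨ MonoidAlgebra.single a r = MonoidAlgebra.single a 1 := by
  rcases zmod_two_cases r with rfl | rfl
  · exact Or.inl (by simp)
  · exact Or.inr rfl

/-- The antipode. -/
noncomputable def anti (x : MK K) : MK K := MonoidAlgebra.ofCoeff (x.coeff.mapDomain (·⁻¹))

omit [Finite K] in
@[simp] theorem anti_single (a : K) (r : ZMod 2) :
    anti (MonoidAlgebra.single a r) = MonoidAlgebra.single a⁻¹ r := by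
  simp [anti, MonoidAlgebra.coeff_single, Finsupp.mapDomain_single]

omit [Finite K] in
theorem anti_add (x y : MK K) : anti (x + y) = anti x + anti y := by
  simp [anti, Finsupp.mapDomain_add]

omit [Finite K] in
@[simp] theorem anti_zero : anti (0 : MK K) = 0 := by simp [anti]

omit [Finite K] in
theorem anti_mul (x y : MK K) : anti (x * y) = anti y * anti x := by
  induction x using MonoidAlgebra.induction_linear with
  | zero => simp
  | add a b ha hb => rw [add_mul, anti_add, anti_add, mul_add, ha, hb]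
  | single a r =>
    induction y using MonoidAlgebra.induction_linear with
    | zero => simp
    | add u v hu hv => rw [mul_add, anti_add, anti_add, add_mul, hu, hv]
    | single b s => simp [MonoidAlgebra.single_mul_single, mul_comm r s]

omit [Finite K] in
theorem anti_anti (x : MK K) : anti (anti x) = x := by
  induction x using MonoidAlgebra.induction_linear with
  | zero => simp
  | add a b ha hb => rw [anti_add, anti_add, ha, hb]
  | single a r => simp

omit [Finite K] in
theorem anti_one : anti (1 : MK K) = 1 := by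
  rw [MonoidAlgebra.one_def, anti_single, inv_one]

omit [Finite K] in
theorem anti_center {x : MK K} (hx : x ∈ Subring.center (MK K)) :
    anti x ∈ Subring.center (MK K) := by
  rw [Subring.mem_center_iff] at hx ⊢
  intro y
  have := congrArg anti (hx (anti y))
  rw [anti_mul, anti_mul, anti_anti] at this
  exact this.symm

/-- The augmentation. -/
noncomputable def aug : MK K →ₐ[ZMod 2] ZMod 2 := MonoidAlgebra.lift (ZMod 2) (ZMod 2) K 1

omit [Finite K] in
@[simp] theorem aug_single (a : K) (r : ZMod 2) : aug (MonoidAlgebra.single a r) = r := by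
  simp [aug]

/-- The sum of the coefficients at the conjugates of `h`. -/
noncomputable def cls (h : K) (x : MK K) : ZMod 2 :=
  haveI := Fintype.ofFinite K
  ∑ k : K, x.coeff (k * h * k⁻¹)

theorem cls_add (h : K) (x y : MK K) : cls h (x + y) = cls h x + cls h y := by
  simp [cls, Finset.sum_add_distrib]

theorem cls_zero (h : K) : cls h (0 : MK K) = 0 := by simp [cls]

theorem cls_single_conj (h a u : K) (r : ZMod 2) :
    cls h (MonoidAlgebra.single (u * a * u⁻¹) r) = cls h (MonoidAlgebra.single a r) := by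
  classical
  letI := Fintype.ofFinite K
  simp only [cls, MonoidAlgebra.coeff_single, Finsupp.single_apply]
  refine Fintype.sum_equiv (Equiv.mulLeft u⁻¹) _ _ fun k => ?_
  refine if_congr ?_ rfl rfl
  rw [Equiv.coe_mulLeft]
  constructor <;> intro e
  · rw [show u⁻¹ * k * h * (u⁻¹ * k)⁻¹ = u⁻¹ * (k * h * k⁻¹) * u by group, ← e]; group
  · rw [show k * h * k⁻¹ = u * (u⁻¹ * k * h * (u⁻¹ * k)⁻¹) * u⁻¹ by group, ← e]

theorem cls_mul_comm (h : K) (x y : MK K) : cls h (x * y) = cls h (y * x) := by
  induction x using MonoidAlgebra.induction_linear with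
  | zero => simp
  | add a b ha hb => rw [add_mul, mul_add, cls_add, cls_add, ha, hb]
  | single a r =>
    induction y using MonoidAlgebra.induction_linear with
    | zero => simp
    | add u v hu hv => rw [mul_add, add_mul, cls_add, cls_add, hu, hv]
    | single b s =>
      rw [MonoidAlgebra.single_mul_single, MonoidAlgebra.single_mul_single, mul_comm s r,
        show a * b = a * (b * a) * a⁻¹ by group, cls_single_conj]

theorem sq_injective_of_odd (hodd : Odd (Nat.card K)) {a b : K} (e : a * a = b * b) : a = b := by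
  have hc : (Nat.card K).Coprime 2 := Nat.coprime_two_right.mpr hodd
  apply (powCoprime hc).injective
  simpa [powCoprime, pow_two] using e

theorem cls_sq (hodd : Odd (Nat.card K)) (g : K) (x : MK K) :
    cls (g * g) (x * x) = cls g x := by
  classical
  letI := Fintype.ofFinite K
  induction x using MonoidAlgebra.induction_linear with
  | zero => simp [cls_zero]
  | add a b ha hb =>
    rw [add_mul, mul_add, mul_add, cls_add, cls_add, cls_add, cls_add, cls_mul_comm (g * g) b a,
      ha, hb]
    linear_combination (cls (g * g) (a * b)) * (CharP.cast_eq_zero (ZMod 2) 2)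
  | single a r =>
    rcases mk_single_cases a r with e | e <;> rw [e]
    · simp [cls_zero]
    simp only [MonoidAlgebra.single_mul_single, mul_one, cls, MonoidAlgebra.coeff_single,
      Finsupp.single_apply]
    refine Finset.sum_congr rfl fun k _ => if_congr ?_ rfl rfl
    constructor
    · intro h1
      refine sq_injective_of_odd hodd (h1.trans ?_)
      group
    · intro h1
      rw [h1]; group

omit [Finite K] in
theorem coeff_conj {z : MK K} (hz : z ∈ Subring.center (MK K)) (k g : K) :
    z.coeff (k * g * k⁻¹) = z.coeff g := by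
  have h := congrArg (fun w : MK K => w.coeff (k * g))
    (Subring.mem_center_iff.mp hz (MonoidAlgebra.single k 1))
  simp only [MonoidAlgebra.coeff_single_mul_apply, MonoidAlgebra.coeff_mul_single_apply, one_mul,
    mul_one, inv_mul_cancel_left] at h
  exact h.symm

theorem center_sq_eq_zero (hodd : Odd (Nat.card K)) {z : MK K} (hz : z ∈ Subring.center (MK K))
    (h : z * z = 0) : z = 0 := by
  letI := Fintype.ofFinite K
  refine MonoidAlgebra.coeff_injective (Finsupp.ext fun g => ?_)
  have h1 := cls_sq hodd g z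
  rw [h, cls_zero] at h1
  have h2 : cls g z = z.coeff g := by
    simp only [cls, coeff_conj hz, Finset.sum_const, nsmul_eq_mul]
    rw [Finset.card_univ, ← Nat.card_eq_fintype_card, (ZMod.natCast_eq_one_iff_odd).mpr hodd,
      one_mul]
  simpa [h2] using h1.symm

omit [Finite K] in
theorem coeff_one_anti (x : MK K) : (anti x).coeff 1 = x.coeff 1 := by
  induction x using MonoidAlgebra.induction_linear with
  | zero => simp
  | add a b ha hb => simp [anti_add, ha, hb]
  | single a r =>
    classical
    simp [MonoidAlgebra.coeff_single, Finsupp.single_apply]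

omit [Finite K] in
theorem coeff_one_mul_anti (x : MK K) : (x * anti x).coeff 1 = aug x := by
  induction x using MonoidAlgebra.induction_linear with
  | zero => simp
  | add a b ha hb =>
    have e : (b * anti a).coeff 1 = (a * anti b).coeff 1 := by
      rw [← coeff_one_anti (a * anti b), anti_mul, anti_anti]
    simp only [anti_add, add_mul, mul_add, MonoidAlgebra.coeff_add, Finsupp.add_apply, map_add,
      ha, hb, e]
    linear_combination ((a * anti b).coeff 1) * (CharP.cast_eq_zero (ZMod 2) 2)
  | single a r =>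
    rcases zmod_two_cases r with rfl | rfl
    · simp
    · simp [MonoidAlgebra.single_mul_single, MonoidAlgebra.coeff_single]

/-- An element of the centre all of whose multiples in the centre vanish at one is zero. -/
theorem eq_zero_of_coeff_one (hodd : Odd (Nat.card K)) {e : MK K}
    (he : e ∈ Subring.center (MK K))
    (h : ∀ w ∈ Subring.center (MK K), (e * w).coeff 1 = 0) : e = 0 := by
  classical
  have := Fintype.ofFinite K
  refine MonoidAlgebra.coeff_injective (Finsupp.ext fun g => ?_)
  let w : MK K := ∑ k : K, MonoidAlgebra.single (k * g⁻¹ * k⁻¹) (1 : ZMod 2)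
  have hw : w ∈ Subring.center (MK K) := by
    rw [Subring.mem_center_iff]
    intro y
    induction y using MonoidAlgebra.induction_linear with
    | zero => simp
    | add a b ha hb => rw [add_mul, mul_add, ha, hb]
    | single a r =>
      simp only [w, Finset.mul_sum, Finset.sum_mul, MonoidAlgebra.single_mul_single, mul_one, one_mul]
      refine Fintype.sum_equiv (Equiv.mulLeft a) _ _ fun k => ?_
      rw [Equiv.coe_mulLeft]
      congr 1
      group
  have := h w hw
  simp only [w, Finset.mul_sum, MonoidAlgebra.coeff_sum, Finsupp.finset_sum_apply] at this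
  have h2 : ∀ k : K, (e * MonoidAlgebra.single (k * g⁻¹ * k⁻¹) (1 : ZMod 2)).coeff 1 = e.coeff g := by
    intro k
    rw [MonoidAlgebra.coeff_mul_single_apply, mul_one, one_mul,
      show (k * g⁻¹ * k⁻¹)⁻¹ = k * g * k⁻¹ by group, coeff_conj he]
  rw [Finset.sum_congr rfl fun k _ => h2 k, Finset.sum_const, nsmul_eq_mul, Finset.card_univ,
    ← Nat.card_eq_fintype_card, (ZMod.natCast_eq_one_iff_odd).mpr hodd, one_mul] at this
  simpa using this

/-- The centre of the group algebra. -/
noncomputable abbrev ZK (K : Type*) [Group K] : Subring (MonoidAlgebra (ZMod 2) K) :=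
  Subring.center (MonoidAlgebra (ZMod 2) K)

omit [Finite K] in
theorem zk_mul_comm (x y : ZK K) : x * y = y * x :=
  Subtype.ext (Subring.mem_center_iff.mp y.2 x.1)

/-- The antipode on the centre. -/
noncomputable def iota : ZK K →+* ZK K where
  toFun x := ⟨anti x.1, anti_center x.2⟩
  map_one' := Subtype.ext anti_one
  map_mul' x y := Subtype.ext (show anti (x.1 * y.1) = anti x.1 * anti y.1 by
    rw [anti_mul]
    exact (Subring.mem_center_iff.mp (anti_center y.2) (anti x.1)).symm)
  map_zero' := Subtype.ext anti_zero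
  map_add' x y := Subtype.ext (anti_add _ _)

omit [Finite K] in
theorem iota_iota (x : ZK K) : iota (iota x) = x := Subtype.ext (anti_anti _)

instance : Finite (MK K) :=
  Finite.of_injective (fun x : MK K => (x.coeff : K → ZMod 2))
    (DFunLike.coe_injective.comp MonoidAlgebra.coeff_injective)

theorem exists_pow_eq (hodd : Odd (Nat.card K)) : ∃ n : ℕ, 0 < n ∧ ∀ x : ZK K, x ^ 2 ^ n = x := by
  classical
  have := Fintype.ofFinite (ZK K)
  have hinj : Function.Injective fun x : ZK K => x * x := by
    intro x y e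
    have h2 : ∀ w : MK K, w + w = 0 := fun w => by
      rw [← two_smul (ZMod 2), show (2 : ZMod 2) = 0 from rfl, zero_smul]
    refine sub_eq_zero.mp (Subtype.ext (center_sq_eq_zero hodd (x - y).2 ?_))
    have e' : (x - y) * (x - y) = x * x - y * y - (x * y - y * y) - (x * y - y * y) := by
      rw [mul_sub, sub_mul, sub_mul, zk_mul_comm y x]; abel
    have h3 : ((x - y) * (x - y) : ZK K) = 0 := by
      rw [e', show x * x = y * y from e, sub_self, zero_sub, sub_eq_zero]
      exact Subtype.ext (neg_eq_of_add_eq_zero_left (h2 _))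
    exact congrArg Subtype.val h3
  let σ : Equiv.Perm (ZK K) := Equiv.ofBijective _ (Finite.injective_iff_bijective.mp hinj)
  refine ⟨orderOf σ, orderOf_pos σ, fun x => ?_⟩
  have key : ∀ n : ℕ, (σ ^ n) x = x ^ 2 ^ n := by
    intro n
    induction n with
    | zero => simp
    | succ n ih =>
      rw [pow_succ', Equiv.Perm.mul_apply, ih, pow_succ, pow_mul, pow_two]
      rfl
  rw [← key, pow_orderOf_eq_one]
  rfl

/-- A minimal idempotent. -/
def MinId (e : ZK K) : Prop :=
  e * e = e ∧ e ≠ 0 ∧ ∀ f : ZK K, f * f = f → e * f = 0 ∨ e * f = e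

omit [Finite K] in
theorem MinId.map {σ : ZK K →+* ZK K} (hσ : Function.Bijective σ) {e : ZK K} (he : MinId e) :
    MinId (σ e) := by
  refine ⟨by rw [← map_mul, he.1], fun h => he.2.1 (hσ.1 (h.trans (map_zero σ).symm)), fun f hf => ?_⟩
  obtain ⟨g, rfl⟩ := hσ.2 f
  rw [← map_mul] at hf ⊢
  rcases he.2.2 g (hσ.1 hf) with e1 | e1 <;> rw [e1]
  · exact Or.inl (map_zero σ)
  · exact Or.inr rfl

omit [Finite K] in
theorem MinId.eq_or_mul {e e' : ZK K} (he : MinId e) (he' : MinId e') : e = e' ∨ e * e' = 0 := by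
  rcases he.2.2 e' he'.1 with h | h
  · exact Or.inr h
  rcases he'.2.2 e he.1 with h' | h'
  · rw [zk_mul_comm] at h'; exact Or.inr h'
  · rw [zk_mul_comm, h] at h'; exact Or.inl h'

/-- The symmetric idempotent of a minimal one. -/
noncomputable def sym (e : ZK K) : ZK K := by
  classical exact if iota e = e then e else e + iota e

theorem sum_mul_self_of_orth {R : Type*} [Semiring R] (s : Finset R)
    (hid : ∀ a ∈ s, a * a = a) (horth : ∀ a ∈ s, ∀ b ∈ s, a ≠ b → a * b = 0) :
    (∑ a ∈ s, a) * (∑ a ∈ s, a) = ∑ a ∈ s, a ∧ ∀ a ∈ s, a * (∑ b ∈ s, b) = a := by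
  classical
  have h : ∀ a ∈ s, a * (∑ b ∈ s, b) = a := by
    intro a ha
    rw [Finset.mul_sum, Finset.sum_eq_single a (fun b hb hne => horth a ha b hb hne.symm)
      (fun hn => absurd ha hn), hid a ha]
  refine ⟨?_, h⟩
  rw [Finset.sum_mul]
  exact Finset.sum_congr rfl h

theorem exists_pow_eq_of_domain {R S : Type*} [CommRing R] [Ring S] [Nontrivial S] (φ : R →+* S)
    (hdom : ∀ a b, φ (a * b) = 0 → φ a = 0 ∨ φ b = 0) {r : ℕ} (hr : r.Prime) {w u : R}
    (hw : orderOf (φ w) = r) (hu : φ u ^ r = 1) : ∃ i : ℕ, φ u = φ w ^ i := by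
  have hI : (RingHom.ker φ).IsPrime := by
    refine ⟨fun h => ?_, fun {a b} h => hdom a b h⟩
    have h1 : φ 1 = 0 := RingHom.mem_ker.mp ((Ideal.eq_top_iff_one _).mp h)
    rw [map_one] at h1
    exact one_ne_zero h1
  have : IsDomain (R ⧸ RingHom.ker φ) := (Ideal.Quotient.isDomain_iff_prime _).mpr hI
  have hinj : Function.Injective (RingHom.kerLift φ) := RingHom.kerLift_injective φ
  have hmk : ∀ y, RingHom.kerLift φ (Ideal.Quotient.mk _ y) = φ y := fun _ => rfl
  have hprim : IsPrimitiveRoot (Ideal.Quotient.mk (RingHom.ker φ) w) r :=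
    IsPrimitiveRoot.iff_orderOf.mpr (by
      rw [← orderOf_injective (RingHom.kerLift φ).toMonoidHom hinj]; exact hw)
  have : NeZero r := ⟨hr.ne_zero⟩
  obtain ⟨i, -, hi⟩ := hprim.eq_pow_of_pow_eq_one (ξ := Ideal.Quotient.mk _ u)
    (hinj (by rw [map_pow, map_one, hmk, hu]))
  exact ⟨i, by rw [← hmk u, ← hi, map_pow, hmk]⟩

variable {V : Type*} [AddCommGroup V] [Module (ZMod 2) V] [Finite V] [Nontrivial V]
variable {P : Type*} [Group P] [Finite P]

set_option maxHeartbeats 800000 in
/-- The trichotomy. -/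
theorem module_trichotomy (hodd : Odd (Nat.card K)) (ρ : Representation (ZMod 2) K V)
    (b : V →ₗ[ZMod 2] V →ₗ[ZMod 2] ZMod 2)
    (hb : ∀ k v w, b (ρ k v) (ρ k w) = b v w) (hfix : ∀ v, (∀ k, ρ k v = v) → v = 0)
    (hP : IsPGroup 2 P) (c : P →* MulAut K) (τ : P → (V ≃ₗ[ZMod 2] V))
    (hτ : ∀ p k v, τ p (ρ k v) = ρ (c p k) (τ p v)) :
    (∃ A A' : Submodule (ZMod 2) V, A ≠ ⊥ ∧ A' ≠ ⊥ ∧ IsCompl A A' ∧
      (∀ a ∈ A, ∀ a' ∈ A', b a a' = 0) ∧
      (∀ k, (∀ a ∈ A, ρ k a ∈ A) ∧ ∀ a ∈ A', ρ k a ∈ A') ∧
      ∀ p, ((∀ a ∈ A, τ p a ∈ A) ∧ ∀ a ∈ A', τ p a ∈ A') ∨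
        ((∀ a ∈ A, τ p a ∈ A') ∧ ∀ a ∈ A', τ p a ∈ A)) ∨
    (∃ A A' : Submodule (ZMod 2) V, IsCompl A A' ∧
      (∀ a ∈ A, ∀ a' ∈ A, b a a' = 0) ∧ (∀ a ∈ A', ∀ a' ∈ A', b a a' = 0) ∧
      (∀ k, (∀ a ∈ A, ρ k a ∈ A) ∧ ∀ a ∈ A', ρ k a ∈ A') ∧
      ∀ p, ((∀ a ∈ A, τ p a ∈ A) ∧ ∀ a ∈ A', τ p a ∈ A') ∨
        ((∀ a ∈ A, τ p a ∈ A') ∧ ∀ a ∈ A', τ p a ∈ A)) ∨
    ∃ (t : Module.End (ZMod 2) V) (r : ℕ), r.Prime ∧ r ≠ 2 ∧ t ^ r = 1 ∧
      (∀ k v, t (ρ k v) = ρ k (t v)) ∧ (∀ v w, b (t v) (t w) = b v w) ∧
      (∀ v, t v = v → v = 0) ∧ ∀ p, ∃ i : ℕ, ∀ v, τ p (t v) = (t ^ i) (τ p v) := by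
  classical
  have := Fintype.ofFinite K
  have := Fintype.ofFinite (ZK K)
  have := Fintype.ofFinite P
  let φ : ZK K →+* Module.End (ZMod 2) V := ρ.asAlgebraHom.toRingHom.comp (Subring.subtype _)
  have hadj : ∀ (x : MK K) v w, b (ρ.asAlgebraHom x v) w = b v (ρ.asAlgebraHom (anti x) w) := by
    intro x v w
    induction x using MonoidAlgebra.induction_linear with
    | zero => simp
    | add a a' ha ha' => simp [anti_add, ha, ha']
    | single a r =>
      simp only [anti_single, Representation.asAlgebraHom_single, LinearMap.smul_apply, map_smul,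
        LinearMap.smul_apply]
      congr 1
      conv_lhs => rw [← hb a⁻¹, Representation.inv_self_apply]
  have hφadj : ∀ (x : ZK K) v w, b (φ x v) w = b v (φ (iota x) w) := fun x => hadj x.1
  have hφk : ∀ (x : ZK K) k v, φ x (ρ k v) = ρ k (φ x v) := by
    intro x k v
    have := congrArg (fun y => ρ.asAlgebraHom y v)
      (Subring.mem_center_iff.mp x.2 (MonoidAlgebra.single k 1))
    simpa [φ, Module.End.mul_apply] using this.symm
  -- the action of `P` on the centre
  let σ₀ : P → (MK K ≃ₐ[ZMod 2] MK K) := fun p => MonoidAlgebra.domCongr (ZMod 2) (ZMod 2) (c p)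
  have hσ0c : ∀ p (x : MK K), x ∈ ZK K → σ₀ p x ∈ ZK K := fun p x hx => by
    rw [Subring.mem_center_iff] at hx ⊢
    intro y
    obtain ⟨w, rfl⟩ := (σ₀ p).surjective y
    rw [← map_mul, ← map_mul, hx w]
  let σ : P → (ZK K →+* ZK K) := fun p =>
    ((σ₀ p).toRingHom.comp (Subring.subtype _)).codRestrict _ fun x => hσ0c p x.1 x.2
  have hσval : ∀ p (x : ZK K), (σ p x).1 = σ₀ p x.1 := fun _ _ => rfl
  have hσ0_single : ∀ p a (r : ZMod 2),
      σ₀ p (MonoidAlgebra.single a r) = MonoidAlgebra.single (c p a) r := fun p a r => by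
    simp [σ₀]
  have hσmul : ∀ p q (x : ZK K), σ (p * q) x = σ p (σ q x) := fun p q x => by
    refine Subtype.ext ?_
    rw [hσval, hσval, hσval]
    generalize x.1 = y
    induction y using MonoidAlgebra.induction_linear with
    | zero => simp
    | add a a' ha ha' => simp [ha, ha']
    | single a r => simp [hσ0_single]
  have hσone : ∀ x : ZK K, σ 1 x = x := fun x => by
    refine Subtype.ext ?_
    rw [hσval]
    generalize x.1 = y
    induction y using MonoidAlgebra.induction_linear with
    | zero => simp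
    | add a a' ha ha' => simp [ha, ha']
    | single a r => simp [hσ0_single]
  have hσbij : ∀ p, Function.Bijective (σ p) := fun p =>
    ⟨fun x y e => by rw [← hσone x, ← hσone y, ← inv_mul_cancel p, hσmul, hσmul, e],
      fun y => ⟨σ p⁻¹ y, by rw [← hσmul, mul_inv_cancel, hσone]⟩⟩
  have hσι : ∀ p (x : ZK K), σ p (iota x) = iota (σ p x) := fun p x => by
    refine Subtype.ext ?_
    show σ₀ p (anti x.1) = anti (σ₀ p x.1)
    generalize x.1 = y
    induction y using MonoidAlgebra.induction_linear with
    | zero => simp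
    | add a a' ha ha' => simp [anti_add, ha, ha']
    | single a r => simp [hσ0_single]
  have hτφ : ∀ p (x : ZK K) v, τ p (φ x v) = φ (σ p x) (τ p v) := by
    intro p x v
    show τ p (ρ.asAlgebraHom x.1 v) = ρ.asAlgebraHom (σ₀ p x.1) (τ p v)
    generalize x.1 = y
    induction y using MonoidAlgebra.induction_linear with
    | zero => simp
    | add a a' ha ha' => simp [ha, ha']
    | single a r => simp [hσ0_single, hτ]
  -- a minimal idempotent acting nontrivially
  obtain ⟨e, hemem, hemin⟩ := Finset.exists_min_image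
    (Finset.univ.filter fun x : ZK K => x * x = x ∧ φ x ≠ 0)
    (fun x => (Finset.univ.filter fun y : ZK K => y * y = y ∧ x * y = y).card)
    ⟨1, by simp⟩
  obtain ⟨-, hee, he0⟩ := Finset.mem_filter.mp hemem
  have hmin : MinId e := by
    refine ⟨hee, fun h => he0 (by rw [h, map_zero]), fun f hf => ?_⟩
    by_contra hcon
    push Not at hcon
    have key : ∀ g : ZK K, g * g = g → e * g ≠ e → φ (e * g) = 0 := by
      intro g hg hge
      by_contra hne
      have hidem : e * g * (e * g) = e * g := by
        rw [mul_assoc, ← mul_assoc g, zk_mul_comm g e, mul_assoc e g g, hg, ← mul_assoc, hee]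
      refine absurd (hemin (e * g) (Finset.mem_filter.mpr ⟨Finset.mem_univ _, hidem, hne⟩)) (not_le.mpr (Finset.card_lt_card ?_))
      refine Finset.ssubset_iff_of_subset (fun y hy => ?_) |>.mpr ⟨e, by simp [hee], ?_⟩
      · simp only [Finset.mem_filter, Finset.mem_univ, true_and] at hy ⊢
        refine ⟨hy.1, ?_⟩
        rw [← hy.2, ← mul_assoc, ← mul_assoc, hee]
      · simp only [Finset.mem_filter, Finset.mem_univ, true_and, not_and]
        intro _ h'
        exact hge (by rw [zk_mul_comm e g, mul_assoc, hee, zk_mul_comm g e] at h'; exact h')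
    have h1 : e * (1 - f) ≠ e := fun h' => hcon.1 (by simpa [mul_sub] using h')
    have h2 := key (1 - f) (by simp [mul_sub, sub_mul, hf]) h1
    have h3 := key f hf hcon.2
    rw [mul_sub, mul_one, map_sub, h3, sub_zero] at h2
    exact he0 h2
  have hιbij : Function.Bijective (iota (K := K)) :=
    ⟨fun x y h => by rw [← iota_iota x, ← iota_iota y, h], fun x => ⟨iota x, iota_iota x⟩⟩
  have hιmin := hmin.map hιbij
  -- the symmetric idempotent and its conjugates
  let f := sym e
  have hfι : iota f = f := by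
    show iota (sym e) = sym e
    unfold sym; split_ifs with h
    · exact h
    · rw [map_add, iota_iota, add_comm]
  have hff : f * f = f := by
    show sym e * sym e = sym e
    unfold sym; split_ifs with h
    · exact hee
    · have h0 := (hmin.eq_or_mul hιmin).resolve_left (Ne.symm h)
      rw [add_mul, mul_add, mul_add, hee, h0, zk_mul_comm (iota e) e, h0, hιmin.1, add_zero, zero_add]
  have hef : e * f = e := by
    show e * sym e = e
    unfold sym; split_ifs with h
    · exact hee
    · rw [mul_add, hee, (hmin.eq_or_mul hιmin).resolve_left (Ne.symm h), add_zero]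
  have hφf : φ f ≠ 0 := fun h => he0 (by rw [← hef, map_mul, h, mul_zero])
  have horth : ∀ p, σ p f = f ∨ σ p f * f = 0 := by
    intro p
    have hm := hmin.map (hσbij p)
    have hm' := hιmin.map (hσbij p)
    rcases hm.eq_or_mul hmin with h1 | h1
    · left
      show σ p (sym e) = sym e
      unfold sym; split_ifs with h
      · exact h1
      · rw [map_add, hσι, h1]
    rcases hm.eq_or_mul hιmin with h2 | h2
    · left
      show σ p (sym e) = sym e
      unfold sym; split_ifs with h
      · rw [h2, h]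
      · rw [map_add, hσι, h2, iota_iota, add_comm]
    right
    have h3 : σ p (iota e) * e = 0 := by
      rw [hσι, ← iota_iota e, iota_iota e, ← map_zero (iota (K := K))]
      conv_lhs => arg 2; rw [← iota_iota e]
      rw [← map_mul, h2]
    have h4 : σ p (iota e) * iota e = 0 := by
      rw [hσι, ← map_mul, h1, map_zero]
    show σ p (sym e) * sym e = 0
    unfold sym; split_ifs with h
    · exact h1
    · rw [map_add, add_mul, mul_add, mul_add, h1, h2, h3, h4]; simp
  let stab : Subgroup P :=
    { carrier := {p | σ p f = f}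
      one_mem' := hσone f
      mul_mem' := fun {p q} hp hq => by show σ (p * q) f = f; rw [hσmul, hq, hp]
      inv_mem' := fun {p} hp => by
        show σ p⁻¹ f = f
        conv_lhs => rw [← hp, ← hσmul, inv_mul_cancel, hσone] }
  have horbit : ∀ p q, σ p f ≠ σ q f → σ p f * σ q f = 0 := by
    intro p q hne
    rcases horth (q⁻¹ * p) with h1 | h1
    · refine absurd ?_ hne
      have := congrArg (σ q) h1
      rwa [← hσmul, mul_inv_cancel_left] at this
    · have := congrArg (σ q) h1
      rwa [map_mul, ← hσmul, mul_inv_cancel_left, map_zero] at this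
  have hidem : ∀ p, σ p f * σ p f = σ p f := fun p => by rw [← map_mul, hff]
  have hrange_inv : ∀ (F : ZK K) k, ∀ a ∈ LinearMap.range (φ F), ρ k a ∈ LinearMap.range (φ F) := by
    rintro F k _ ⟨v, rfl⟩
    exact ⟨ρ k v, hφk F k v⟩
  have hmapto : ∀ p (F G : ZK K), φ (σ p F) = φ G → ∀ a ∈ LinearMap.range (φ F),
      τ p a ∈ LinearMap.range (φ G) := by
    rintro p F G h _ ⟨v, rfl⟩
    exact ⟨τ p v, by rw [hτφ, h]⟩
  have hcompl : ∀ F : ZK K, F * F = F →
      IsCompl (LinearMap.range (φ F)) (LinearMap.range (φ (1 - F))) := by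
    intro F hF
    refine IsCompl.of_eq ?_ ?_
    · rw [Submodule.eq_bot_iff]
      rintro x ⟨⟨v, rfl⟩, ⟨w, hw⟩⟩
      have := congrArg (φ F) hw
      rw [← Module.End.mul_apply, ← Module.End.mul_apply, ← map_mul, ← map_mul, hF, mul_sub,
        mul_one, hF, sub_self, map_zero, LinearMap.zero_apply] at this
      exact this.symm
    · rw [Submodule.eq_top_iff']
      intro v
      refine Submodule.mem_sup.mpr ⟨_, ⟨v, rfl⟩, _, ⟨v, rfl⟩, ?_⟩
      rw [← LinearMap.add_apply, ← map_add, add_sub_cancel, map_one, Module.End.one_apply]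
  have hperp : ∀ F : ZK K, F * F = F → iota F = F → ∀ a ∈ LinearMap.range (φ F),
      ∀ a' ∈ LinearMap.range (φ (1 - F)), b a a' = 0 := by
    rintro F hF hι _ ⟨v, rfl⟩ _ ⟨w, rfl⟩
    rw [hφadj, hι, ← Module.End.mul_apply, ← map_mul, mul_sub, mul_one, hF, sub_self, map_zero,
      LinearMap.zero_apply, map_zero]
  have split : ∀ F : ZK K, F * F = F → iota F = F → φ F ≠ 0 → φ F ≠ 1 →
      (∀ p, φ (σ p F) = φ F ∨ (φ (σ p F) = φ (1 - F) ∧ φ (σ p (1 - F)) = φ F)) →
      ∃ A A' : Submodule (ZMod 2) V, A ≠ ⊥ ∧ A' ≠ ⊥ ∧ IsCompl A A' ∧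
        (∀ a ∈ A, ∀ a' ∈ A', b a a' = 0) ∧
        (∀ k, (∀ a ∈ A, ρ k a ∈ A) ∧ ∀ a ∈ A', ρ k a ∈ A') ∧
        ∀ p, ((∀ a ∈ A, τ p a ∈ A) ∧ ∀ a ∈ A', τ p a ∈ A') ∨
          ((∀ a ∈ A, τ p a ∈ A') ∧ ∀ a ∈ A', τ p a ∈ A) := by
    intro F hF hι h0 h1 hperm
    refine ⟨_, _, fun h => h0 (LinearMap.range_eq_bot.mp h), fun h => h1 ?_, hcompl F hF,
      hperp F hF hι, fun k => ⟨hrange_inv F k, hrange_inv _ k⟩, fun p => ?_⟩
    · have := LinearMap.range_eq_bot.mp h
      rw [map_sub, map_one, sub_eq_zero] at this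
      exact this.symm
    rcases hperm p with h | ⟨h, h'⟩
    · exact Or.inl ⟨hmapto p F F h, hmapto p _ _ (by rw [map_sub, map_one, map_sub, map_one, map_sub,
        h, map_one])⟩
    · exact Or.inr ⟨hmapto p F _ h, hmapto p _ F h'⟩
  have orbitSum : ∀ s : Finset P,
      (∑ a ∈ s.image (σ · f), a) * (∑ a ∈ s.image (σ · f), a) = ∑ a ∈ s.image (σ · f), a ∧
      iota (∑ a ∈ s.image (σ · f), a) = ∑ a ∈ s.image (σ · f), a ∧
      ∀ p ∈ s, σ p f * (∑ a ∈ s.image (σ · f), a) = σ p f := by
    intro s
    obtain ⟨h1, h2⟩ := sum_mul_self_of_orth (s.image (σ · f))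
      (fun a ha => by obtain ⟨p, -, rfl⟩ := Finset.mem_image.mp ha; exact hidem p)
      (fun a ha a' ha' hne => by
        obtain ⟨p, -, rfl⟩ := Finset.mem_image.mp ha
        obtain ⟨q, -, rfl⟩ := Finset.mem_image.mp ha'
        exact horbit p q hne)
    refine ⟨h1, ?_, fun p hp => h2 _ (Finset.mem_image_of_mem _ hp)⟩
    rw [map_sum]
    refine Finset.sum_congr rfl fun a ha => ?_
    obtain ⟨p, -, rfl⟩ := Finset.mem_image.mp ha
    rw [← hσι, hfι]
  have mapSum : ∀ (s t : Finset P) (p : P), s.image (p * ·) = t →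
      σ p (∑ a ∈ s.image (σ · f), a) = ∑ a ∈ t.image (σ · f), a := by
    intro s t p hst
    rw [← hst, Finset.image_image, map_sum,
      show ((σ · f) ∘ (p * ·)) = σ p ∘ (σ · f) from funext fun q => hσmul p q f,
      ← Finset.image_image, Finset.sum_image ((hσbij p).1.injOn)]
  set F := ∑ a ∈ (Finset.univ : Finset P).image (σ · f), a with hFdef
  obtain ⟨hFF, hFι, hFmem⟩ := orbitSum Finset.univ
  have hFσ : ∀ p, σ p F = F := fun p => mapSum _ _ p (Finset.image_univ_of_surjective
    (fun q => ⟨p⁻¹ * q, mul_inv_cancel_left p q⟩))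
  have hφF : φ F ≠ 0 := fun h => hφf (by
    have := hFmem 1 (Finset.mem_univ _)
    rw [hσone] at this
    rw [← this, map_mul, h, mul_zero])
  by_cases hF1 : φ F = 1
  swap
  · exact Or.inl (split F hFF hFι hφF hF1 fun p => Or.inl (by rw [hFσ]))
  by_cases hst : stab = ⊤
  swap
  · left
    obtain ⟨k, hk⟩ := IsPGroup.iff_card.mp hP
    obtain ⟨j, hj⟩ := IsPGroup.iff_card.mp (hP.to_subgroup stab)
    have hjk : j < k := by
      refine (Nat.pow_lt_pow_iff_right (show 1 < 2 by norm_num)).mp ?_
      rw [← hj, ← hk]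
      exact lt_of_le_of_ne (Subgroup.card_le_card_group stab)
        fun e => hst (Subgroup.eq_top_of_card_eq _ e)
    obtain ⟨k', rfl⟩ := Nat.exists_eq_add_of_lt hjk
    obtain ⟨H, hH, hle⟩ := Sylow.exists_subgroup_card_pow_prime_le 2
      (n := j) (m := j + k') (by rw [hk]; exact pow_dvd_pow 2 (by omega)) stab hj (by omega)
    have hidx : H.index = 2 := by
      have h1 := H.card_mul_index
      rw [hH, hk, pow_succ] at h1
      exact Nat.eq_of_mul_eq_mul_left (pow_pos two_pos _) h1
    let sH : Finset P := Finset.univ.filter (· ∈ H)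
    set FH := ∑ a ∈ sH.image (σ · f), a with hFH
    obtain ⟨hHH, hHι, hHmem⟩ := orbitSum sH
    have hshift : ∀ p ∈ H, σ p FH = FH := fun p hp => mapSum _ _ p (by
      ext q
      simp only [sH, Finset.mem_image, Finset.mem_filter, Finset.mem_univ, true_and]
      exact ⟨by rintro ⟨a, ha, rfl⟩; exact H.mul_mem hp ha,
        fun hq => ⟨p⁻¹ * q, H.mul_mem (H.inv_mem hp) hq, mul_inv_cancel_left p q⟩⟩)
    have hother : ∀ p ∉ H, σ p FH = F - FH := by
      intro p hp
      rw [eq_sub_iff_add_eq]
      let sC : Finset P := Finset.univ.filter (· ∉ H)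
      have h1 : σ p FH = ∑ a ∈ sC.image (σ · f), a := mapSum _ _ p (by
        ext q
        simp only [sH, sC, Finset.mem_image, Finset.mem_filter, Finset.mem_univ, true_and]
        constructor
        · rintro ⟨a, ha, rfl⟩ hq
          exact hp ((H.mul_mem_cancel_right ha).mp hq)
        · intro hq
          refine ⟨p⁻¹ * q, ?_, mul_inv_cancel_left p q⟩
          rw [Subgroup.mul_mem_iff_of_index_two hidx, H.inv_mem_iff]
          exact iff_of_false hp hq)
      rw [h1, hFH, hFdef, ← Finset.sum_union, ← Finset.image_union]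
      · congr 2
        ext q; simp [sC, sH, em']
      rw [Finset.disjoint_left]
      intro a ha ha'
      simp only [sC, sH, Finset.mem_image, Finset.mem_filter, Finset.mem_univ, true_and] at ha ha'
      obtain ⟨p₁, hp₁, rfl⟩ := ha
      obtain ⟨p₂, hp₂, h2⟩ := ha'
      have : p₁⁻¹ * p₂ ∈ stab := by
        show σ (p₁⁻¹ * p₂) f = f
        rw [hσmul]
        refine (hσbij p₁⁻¹).1.eq_iff.mpr h2.symm |>.symm.trans ?_
        rw [← hσmul, inv_mul_cancel, hσone]
      exact hp₁ (by
        have hh := hle this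
        have : p₂⁻¹ ∈ H := H.inv_mem hp₂
        simpa using H.inv_mem ((H.mul_mem_cancel_right hp₂).mp hh))
    refine split FH hHH hHι ?_ ?_ fun p => ?_
    · intro h
      have := hHmem 1 (by simp [sH, H.one_mem])
      rw [hσone] at this
      exact hφf (by rw [← this, map_mul, h, mul_zero])
    · intro h
      obtain ⟨g, hg⟩ : ∃ g, g ∉ H := by
        by_contra hh
        push Not at hh
        rw [(Subgroup.eq_top_iff' H).mpr hh, Subgroup.index_top] at hidx
        omega
      have h2 := hother g hg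
      have h3 : φ (σ g FH) = 0 := by rw [h2, map_sub, hF1, h, sub_self]
      have h4 : ∀ v, φ FH v = 0 := fun v => by
        apply (τ g).injective
        rw [hτφ, h3, LinearMap.zero_apply, map_zero]
      rw [h] at h4
      obtain ⟨v, hv⟩ := exists_ne (0 : V)
      exact hv (h4 v)
    · by_cases hp : p ∈ H
      · exact Or.inl (by rw [hshift p hp])
      · refine Or.inr ⟨by rw [hother p hp, map_sub, map_sub, hF1, map_one], ?_⟩
        rw [map_sub, map_one, map_sub, map_one, hother p hp, map_sub, hF1]
        abel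
  have hfix' : ∀ p, σ p f = f := fun p => show p ∈ stab from hst ▸ Subgroup.mem_top p
  have hf1 : φ f = 1 := by
    rw [← hF1, hFdef, show (Finset.univ : Finset P).image (σ · f) = {f} from ?_, Finset.sum_singleton]
    ext a
    simp only [Finset.mem_image, Finset.mem_univ, true_and, Finset.mem_singleton]
    exact ⟨by rintro ⟨p, rfl⟩; exact hfix' p, fun h => ⟨1, h ▸ hσone f⟩⟩
  have hperme : ∀ p, σ p e = e ∨ σ p e = iota e := by
    intro p
    by_contra hcon
    push Not at hcon
    have hm := hmin.map (hσbij p)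
    have h1 := (hm.eq_or_mul hmin).resolve_left hcon.1
    have h2 := (hm.eq_or_mul hιmin).resolve_left hcon.2
    have h3 : σ p e * f = 0 := by
      show σ p e * sym e = 0
      unfold sym; split_ifs
      · exact h1
      · rw [mul_add, h1, h2, add_zero]
    rw [← hfix' p, ← map_mul, hef] at h3
    exact hm.2.1 h3
  by_cases hsd : iota e = e
  swap
  · refine Or.inr (Or.inl ⟨LinearMap.range (φ e), LinearMap.range (φ (iota e)), ?_, ?_, ?_,
      fun k => ⟨hrange_inv e k, hrange_inv _ k⟩, fun p => ?_⟩)
    · have h0 := (hmin.eq_or_mul hιmin).resolve_left (Ne.symm hsd)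
      have : φ (iota e) = φ (1 - e) := by
        rw [map_sub, map_one, ← hf1, show f = e + iota e from if_neg hsd, map_add, add_sub_cancel_left]
      rw [this]
      exact hcompl e hee
    · rintro _ ⟨v, rfl⟩ _ ⟨w, rfl⟩
      rw [hφadj, ← Module.End.mul_apply, ← map_mul, zk_mul_comm,
        (hmin.eq_or_mul hιmin).resolve_left (Ne.symm hsd), map_zero, LinearMap.zero_apply, map_zero]
    · rintro _ ⟨v, rfl⟩ _ ⟨w, rfl⟩
      rw [hφadj, iota_iota, ← Module.End.mul_apply, ← map_mul,
        (hmin.eq_or_mul hιmin).resolve_left (Ne.symm hsd), map_zero, LinearMap.zero_apply, map_zero]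
    · rcases hperme p with h | h
      · exact Or.inl ⟨hmapto p e e (by rw [h]), hmapto p _ _ (by rw [hσι, h])⟩
      · exact Or.inr ⟨hmapto p e _ (by rw [h]), hmapto p _ e (by rw [hσι, h, iota_iota])⟩
  -- the self-dual case: the image of the centre is a field
  have hfe : f = e := if_pos hsd
  have hφe : φ e = 1 := hfe ▸ hf1
  have hσe : ∀ p, σ p e = e := fun p => hfe ▸ hfix' p
  obtain ⟨n, hn, hpow⟩ := exists_pow_eq hodd
  have hM : 2 ≤ 2 ^ n := le_self_pow₀ (show 1 ≤ 2 by norm_num) hn.ne'
  have hunit : ∀ x : ZK K, e * x ≠ 0 → φ x * φ (x ^ (2 ^ n - 2)) = 1 := by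
    intro x hx
    have hid : x ^ (2 ^ n - 1) * x ^ (2 ^ n - 1) = x ^ (2 ^ n - 1) := by
      rw [← pow_add, show 2 ^ n - 1 + (2 ^ n - 1) = 2 ^ n + (2 ^ n - 2) by omega, pow_add, hpow,
        ← pow_succ']
      congr 1
      omega
    rcases hmin.2.2 _ hid with h | h
    · refine absurd ?_ hx
      rw [← hpow x, show 2 ^ n = 2 ^ n - 1 + 1 by omega, pow_succ, ← mul_assoc, h, zero_mul]
    · rw [← map_mul, ← pow_succ', show 2 ^ n - 2 + 1 = 2 ^ n - 1 by omega, ← one_mul (φ _), ← hφe,
        ← map_mul, h]
  have hker : ∀ x : ZK K, φ x = 0 → e * x = 0 := fun x hx => by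
    by_contra h
    have := hunit x h
    rw [hx, zero_mul] at this
    exact zero_ne_one this
  obtain ⟨x, hx⟩ : ∃ x : ZK K, φ (iota x) ≠ φ x := by
    by_contra hcon
    push Not at hcon
    have hinv : ∀ x : ZK K, iota (e * x) = e * x := fun x => by
      have h := hker (iota x - x) (by rw [map_sub, hcon, sub_self])
      rw [mul_sub, sub_eq_zero] at h
      rw [map_mul, hsd, h]
    let e₀ : MK K := ∑ k : K, MonoidAlgebra.single k 1
    have hmul : ∀ y : MK K, y * e₀ = aug y • e₀ := by
      intro y
      induction y using MonoidAlgebra.induction_linear with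
      | zero => simp
      | add a a' ha ha' => rw [add_mul, ha, ha', map_add, add_smul]
      | single a r =>
        rw [aug_single, Finset.mul_sum, Finset.smul_sum]
        refine Fintype.sum_equiv (Equiv.mulLeft a) _ _ fun k => ?_
        simp [MonoidAlgebra.single_mul_single, MonoidAlgebra.smul_single]
    have he0c : e₀ ∈ ZK K := by
      rw [Subring.mem_center_iff]
      intro y
      induction y using MonoidAlgebra.induction_linear with
      | zero => simp
      | add a a' ha ha' => rw [add_mul, mul_add, ha, ha']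
      | single a r =>
        simp only [e₀, Finset.mul_sum, Finset.sum_mul, MonoidAlgebra.single_mul_single, mul_one,
          one_mul]
        refine Fintype.sum_equiv (Equiv.mulLeft a |>.trans (Equiv.mulRight a⁻¹)) _ _ fun k => ?_
        simp
    have hφ0 : φ ⟨e₀, he0c⟩ = 0 := by
      refine LinearMap.ext fun v => hfix _ fun k => ?_
      show ρ k (ρ.asAlgebraHom e₀ v) = ρ.asAlgebraHom e₀ v
      simp only [e₀, map_sum, Representation.asAlgebraHom_single_one, LinearMap.sum_apply]
      exact Fintype.sum_equiv (Equiv.mulLeft k) _ _ fun j => by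
        rw [Equiv.coe_mulLeft, map_mul, Module.End.mul_apply]
    have haug : aug e.1 = 0 := by
      rcases zmod_two_cases (aug e.1) with h | h
      · exact h
      · have h1 : e * ⟨e₀, he0c⟩ = ⟨e₀, he0c⟩ := Subtype.ext (by
          show e.1 * e₀ = e₀; rw [hmul, h, one_smul])
        have h2 := hker _ hφ0
        rw [h1] at h2
        have h3 := congrArg (fun w : ZK K => (w.1).coeff 1) h2
        simp [e₀, MonoidAlgebra.coeff_sum, MonoidAlgebra.coeff_single, Finsupp.finset_sum_apply,
          Finsupp.single_apply] at h3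
    refine hmin.2.1 (Subtype.ext (eq_zero_of_coeff_one hodd e.2 fun w hw => ?_))
    let W : ZK K := (e * ⟨w, hw⟩) ^ 2 ^ (n - 1)
    have hW : W * W = e * ⟨w, hw⟩ := by
      rw [← pow_add, ← mul_two, ← pow_succ, show n - 1 + 1 = n by omega, hpow]
    have hWe : e * W = W := by
      show e * (e * ⟨w, hw⟩) ^ _ = _
      have : ∀ m, 0 < m → e * (e * (⟨w, hw⟩ : ZK K)) ^ m = (e * ⟨w, hw⟩) ^ m := by
        intro m hm
        obtain ⟨m, rfl⟩ := Nat.exists_eq_succ_of_ne_zero hm.ne'
        rw [pow_succ', ← mul_assoc, ← mul_assoc, hee]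
      exact this _ (pow_pos two_pos _)
    have hWι : iota W = W := by rw [← hWe]; exact hinv W
    show (e.1 * w).coeff 1 = 0
    rw [show e.1 * w = W.1 * anti W.1 from by
        rw [show anti W.1 = W.1 from congrArg Subtype.val hWι]
        exact (congrArg Subtype.val hW).symm,
      coeff_one_mul_anti, show W.1 = e.1 * W.1 from (congrArg Subtype.val hWe).symm, map_mul, haug,
      zero_mul]
  have hι0 : ∀ y : ZK K, φ y = 0 → φ (iota y) = 0 := fun y hy => by
    have := congrArg iota (hker y hy)
    rw [map_mul, hsd, map_zero] at this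
    rw [← one_mul (φ _), ← hφe, ← map_mul, this, map_zero]
  have hxe : e * x ≠ 0 := fun h => by
    have h0 : φ x = 0 := by rw [← one_mul (φ x), ← hφe, ← map_mul, h, map_zero]
    exact hx (by rw [h0, hι0 x h0])
  have hxe' : e * iota x ≠ 0 := fun h => hxe (by
    have := congrArg iota h
    rwa [map_mul, hsd, iota_iota, map_zero] at this)
  let t0 : ZK K := iota x * x ^ (2 ^ n - 2)
  have hT1 : φ t0 ≠ 1 := by
    intro h
    refine hx ?_
    calc φ (iota x) = φ (iota x) * (φ (x ^ (2 ^ n - 2)) * φ x) := by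
          rw [← map_mul φ (x ^ _), zk_mul_comm, map_mul, hunit x hxe, mul_one]
      _ = φ t0 * φ x := by rw [← mul_assoc, ← map_mul φ (iota x)]
      _ = φ x := by rw [h, one_mul]
  have hTnorm : φ (iota t0) * φ t0 = 1 := by
    have e1 : iota t0 * t0 =
        (x * x ^ (2 ^ n - 2)) * (iota x * iota x ^ (2 ^ n - 2)) := by
      show iota (iota x * x ^ (2 ^ n - 2)) * (iota x * x ^ (2 ^ n - 2)) = _
      rw [map_mul, iota_iota, map_pow]
      ring
    rw [← map_mul, e1, map_mul, map_mul, map_mul, hunit x hxe, hunit (iota x) hxe', one_mul]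
  have hTe : e * t0 ≠ 0 := fun h => by
    have h0 : φ t0 = 0 := by rw [← one_mul (φ t0), ← hφe, ← map_mul, h, map_zero]
    rw [h0, mul_zero] at hTnorm
    exact zero_ne_one hTnorm
  have hTord : φ t0 ^ (2 ^ n - 1) = 1 := by
    rw [← hunit t0 hTe, ← map_mul, ← map_pow, ← pow_succ']
    congr 2
    omega
  have hT0 : IsOfFinOrder (φ t0) := isOfFinOrder_iff_pow_eq_one.mpr ⟨_, by omega, hTord⟩
  let o := orderOf (φ t0)
  have ho1 : o ≠ 1 := fun h => hT1 (orderOf_eq_one_iff.mp h)
  let r := o.minFac
  have hr : r.Prime := Nat.minFac_prime ho1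
  have hr2 : r ≠ 2 := by
    intro h
    have h0 : o.minFac ∣ 2 ^ n - 1 := (Nat.minFac_dvd o).trans (orderOf_dvd_of_pow_eq_one hTord)
    have h1 : 2 ∣ 2 ^ n - 1 := by rwa [show o.minFac = 2 from h] at h0
    have h2 : 2 ∣ 2 ^ n := dvd_pow_self 2 hn.ne'
    omega
  let w : ZK K := t0 ^ (o / r)
  have hord : orderOf (φ w) = r := by
    rw [map_pow, orderOf_pow' _ (Nat.div_pos (Nat.minFac_le (hT0.orderOf_pos)) hr.pos).ne',
      Nat.gcd_eq_right (Nat.div_dvd_of_dvd (Nat.minFac_dvd o)),
      Nat.div_div_self (Nat.minFac_dvd o) hT0.orderOf_pos.ne']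
  have hw1 : φ w ≠ 1 := fun h => hr.one_lt.ne' (by rw [← hord, h, orderOf_one])
  refine Or.inr (Or.inr ⟨φ w, r, hr, hr2, by rw [← hord]; exact pow_orderOf_eq_one _,
    fun k v => hφk w k v, fun v v' => ?_, fun v hv => ?_, fun p => ?_⟩)
  · have hN : φ (iota w) * φ w = 1 := by
      have hc : Commute (φ (iota t0)) (φ t0) := by
        show _ * _ = _ * _; rw [← map_mul, ← map_mul, zk_mul_comm]
      rw [map_pow iota, map_pow, map_pow, ← hc.mul_pow, hTnorm, one_pow]
    rw [hφadj, ← Module.End.mul_apply, hN, Module.End.one_apply]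
  · have hne : e * (w - 1) ≠ 0 := fun h => hw1 (by
      have : φ (w - 1) = 0 := by rw [← one_mul (φ (w - 1)), ← hφe, ← map_mul, h, map_zero]
      rwa [map_sub, map_one, sub_eq_zero] at this)
    have h1 := hunit (w - 1) hne
    rw [← map_mul, zk_mul_comm, map_mul] at h1
    have h2 : φ (w - 1) v = 0 := by
      rw [map_sub, map_one, LinearMap.sub_apply, Module.End.one_apply, hv, sub_self]
    rw [← Module.End.one_apply (R := ZMod 2) v, ← h1, Module.End.mul_apply, h2, map_zero]
  · -- conjugates of a primitive root in the field are its powers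
    have hdom : ∀ a a' : ZK K, φ (a * a') = 0 → φ a = 0 ∨ φ a' = 0 := by
      intro a a' h
      by_cases ha : e * a = 0
      · left
        rw [← one_mul (φ a), ← hφe, ← map_mul, ha, map_zero]
      · right
        have h1 := hunit a ha
        rw [← map_mul, mul_comm a, map_mul] at h1
        rw [← one_mul (φ a'), ← h1, mul_assoc, ← map_mul φ a, h, mul_zero]
    have hpr : φ (σ p w) ^ r = 1 := by
      rw [← map_pow, ← map_pow]
      refine LinearMap.ext fun v => ?_
      obtain ⟨u, rfl⟩ := (τ p).surjective v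
      rw [← hτφ, map_pow, ← hord, pow_orderOf_eq_one, Module.End.one_apply, Module.End.one_apply]
    obtain ⟨i, hi⟩ := exists_pow_eq_of_domain φ hdom hr hord hpr
    exact ⟨i, fun v => by rw [hτφ, hi]⟩

end Cfsg.Agent.XSExt
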