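import Cfsg.Prelude.Def_Characters
import Cfsg.Agent.Lib.CharCore.Complete
import Cfsg.Agent.Lib.CharCore.Linear
import Cfsg.Agent.Lib.CharCore.Eigen
import Cfsg.Agent.Lib.CharClifford.Central
import Cfsg.Agent.CharDeep.Ext.Main
import Cfsg.Agent.CharDeep.Ext.Thompson
import Cfsg.Agent.CharB.CyclicExt

/-!
# Groups with centre of order two and commutators in it: the faithful character

`XS E z`: `{1, z}` is the centre of `E` and contains all commutators and squares.  A function is
`Good` at a central involution if it is a character of degree `c` taking the value `-c` there.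
-/

set_option autoImplicit false

open Cfsg
open scoped ComplexConjugate

namespace Cfsg.Agent.XSExt

universe u

/-- The centre is `{1, z}` and contains all commutators and squares. -/
structure XS (E : Type u) [Group E] (z : E) : Prop where
  ne : z ≠ 1
  sq : z * z = 1
  central : ∀ x, z * x = x * z
  comm : ∀ x y, x * y = y * x ∨ x * y = y * x * z
  nondeg : ∀ x, (∀ y, x * y = y * x) → x = 1 ∨ x = z
  sqMem : ∀ x, x * x = 1 ∨ x * x = z

/-- A character of degree `c` with value `-c` at `z`. -/
def Good {G : Type u} [Group G] (f : G → ℂ) (z : G) (c : ℕ) : Prop :=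
  IsCharacter G f ∧ f 1 = c ∧ f z = -(c : ℂ)

namespace XS

variable {E : Type u} [Group E] {z : E} (h : XS E z)
include h

theorem aut_z (α : MulAut E) : α z = z := by
  rcases h.nondeg (α z) fun y => by
      obtain ⟨w, rfl⟩ := α.surjective y
      rw [← map_mul, h.central, map_mul] with h1 | h1
  · exact absurd (α.injective (h1.trans (map_one α).symm)) h.ne
  · exact h1

theorem isPGroup : IsPGroup 2 E := fun x => ⟨2, by
  rw [show (2 : ℕ) ^ 2 = 2 + 2 from rfl, pow_add, pow_two]
  rcases h.sqMem x with e | e <;> rw [e]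
  · exact one_mul 1
  · exact h.sq⟩

theorem exists_conj_eq {x : E} (h1 : x ≠ 1) (hz : x ≠ z) : ∃ y, y * x * y⁻¹ = x * z := by
  obtain ⟨y, hy⟩ : ∃ y, x * y ≠ y * x := by
    by_contra hc
    push Not at hc
    rcases h.nondeg x hc with e | e
    exacts [h1 e, hz e]
  refine ⟨y, ?_⟩
  rcases h.comm y x with e | e
  · exact absurd e.symm hy
  · rw [e, mul_assoc x y z, ← h.central y, ← mul_assoc, mul_inv_cancel_right]

end XS

/-- An element with character value minus the degree acts as `-1`. -/
theorem rep_eq_neg {G : Type u} [Group G] [Finite G] {n : ℕ}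
    (ρ : Representation ℂ G (Fin n → ℂ)) {w : G} {d : ℕ} (h1 : ρ.character 1 = d)
    (hw : ρ.character w = -(d : ℂ)) : ρ w = (-1 : ℂ) • LinearMap.id := by
  have hd : (Module.finrank ℂ (Fin n → ℂ) : ℂ) = d := by rw [← h1, Representation.char_one]
  have hn : ‖ρ.character w‖ = (Module.finrank ℂ (Fin n → ℂ) : ℝ) := by
    rw [hw, norm_neg, ← hd, Complex.norm_natCast]
  obtain ⟨b, hb⟩ := (CharCore.norm_character_eq_iff ρ w).mp hn
  rcases Nat.eq_zero_or_pos n with rfl | hn0
  · exact LinearMap.ext fun v => Subsingleton.elim _ _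
  · have h2 : ρ.character w = b * n := by
      simp [Representation.character, hb, LinearMap.trace_id, map_smul]
    have h3 : (n : ℂ) = d := by simpa using hd
    rw [h2, ← h3] at hw
    have : b = -1 := mul_right_cancel₀ (Nat.cast_ne_zero.mpr hn0.ne') (hw.trans (by ring))
    rw [hb, this]

theorem Good.mul_z {G : Type u} [Group G] [Finite G] {f : G → ℂ} {w : G} {c : ℕ} (hf : Good f w c)
    (x : G) : f (x * w) = -f x := by
  obtain ⟨⟨n, ρ, rfl⟩, h1, hw⟩ := hf
  simp only [Representation.character, map_mul, rep_eq_neg ρ h1 hw]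
  rw [mul_smul_comm, map_smul, Module.End.mul_eq_comp, LinearMap.comp_id, smul_eq_mul, neg_one_mul]

theorem Good.z_mul {G : Type u} [Group G] [Finite G] {f : G → ℂ} {w : G} {c : ℕ} (hf : Good f w c)
    (x : G) : f (w * x) = -f x := by
  rw [← hf.mul_z x, ← CharCore.IsCharacter.isClassFunction hf.1 (w * x) x]
  congr 1
  group

namespace XS

variable {E : Type u} [Group E] {z : E} (h : XS E z)
include h

theorem vanish [Finite E] {f : E → ℂ} {c : ℕ} (hf : Good f z c) {x : E} (h1 : x ≠ 1)
    (hz : x ≠ z) : f x = 0 := by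
  obtain ⟨y, hy⟩ := h.exists_conj_eq h1 hz
  have := CharCore.IsCharacter.isClassFunction hf.1 x y
  rw [hy, hf.mul_z] at this
  linear_combination (-1 / 2 : ℂ) * this

theorem classInner_self [Fintype E] {f : E → ℂ} {c : ℕ} (hf : Good f z c) :
    classInner f f = (2 : ℂ) * c * c / Nat.card E := by
  classical
  rw [classInner, ← Finset.sum_subset (Finset.subset_univ {1, z}) fun x _ hx => by
      simp only [Finset.mem_insert, Finset.mem_singleton, not_or] at hx
      rw [h.vanish hf hx.1 hx.2, zero_mul],
    Finset.sum_pair h.ne.symm, hf.2.1, hf.2.2, map_neg, map_natCast]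
  ring

theorem good_eq [Finite E] {f g : E → ℂ} {c : ℕ} (hf : Good f z c) (hg : Good g z c) : f = g := by
  funext x
  by_cases h1 : x = 1
  · rw [h1, hf.2.1, hg.2.1]
  by_cases hz : x = z
  · rw [hz, hf.2.2, hg.2.2]
  rw [h.vanish hf h1 hz, h.vanish hg h1 hz]

theorem good_irr [Finite E] {f : E → ℂ} {c : ℕ} (hf : Good f z c)
    (hc : c * c * 2 = Nat.card E) : IsIrrCharacter E f := by
  classical
  have := Fintype.ofFinite E
  rw [CharCore.isIrrCharacter_iff]
  refine ⟨hf.1, ?_⟩
  rw [h.classInner_self hf, ← hc]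
  have : (c : ℂ) ≠ 0 := by
    have := Nat.card_pos (α := E)
    exact Nat.cast_ne_zero.mpr fun e => by subst e; rw [zero_mul, zero_mul] at hc; omega
  push_cast
  field_simp

/-- The faithful irreducible character. -/
theorem exists_good [Finite E] :
    ∃ (f : E → ℂ) (c : ℕ), IsIrrCharacter E f ∧ Good f z c ∧ c * c * 2 = Nat.card E := by
  classical
  have := Fintype.ofFinite E
  obtain ⟨χ, hχ⟩ : ∃ χ : IrrCharacter E, (χ : E → ℂ) z ≠ (χ : E → ℂ) 1 := by
    by_contra hc
    push Not at hc
    exact h.ne (CharDeep.Ext.eq_one_of_forall_irr hc)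
  obtain ⟨n, ρ, hρ, hρχ⟩ := χ.2
  have := hρ
  obtain ⟨b, hb⟩ := CharClifford.exists_scalar_of_commute ρ (ρ z) fun g => by
    rw [Commute, SemiconjBy, ← map_mul, ← map_mul, h.central]
  have hb2 : (b * b) • (1 : Module.End ℂ (Fin n → ℂ)) = 1 := by
    conv_rhs => rw [← map_one ρ, ← h.sq, map_mul, hb]
    rw [smul_mul_smul_comm, mul_one]
  have := CharInd.nontrivial_of_irreducible ρ
  have hb3 : b * b = 1 :=
    smul_left_injective ℂ (one_ne_zero (α := Module.End ℂ (Fin n → ℂ))) (by simpa using hb2)
  have hb4 : b = -1 := by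
    rcases mul_self_eq_one_iff.mp hb3 with e | e
    · refine absurd ?_ hχ
      rw [← hρχ]
      simp [Representation.character, hb, e]
    · exact e
  have hg : Good (χ : E → ℂ) z n := by
    refine ⟨CharCore.irr_isCharacter χ, ?_, ?_⟩
    · rw [← hρχ, Representation.char_one]; simp
    · rw [← hρχ, Representation.character, hb, hb4, map_smul, Module.End.one_eq_id,
        LinearMap.trace_id]
      simp
  refine ⟨χ, n, χ.2, hg, ?_⟩
  have h2 := h.classInner_self hg
  rw [CharCore.classInner_irr_self] at h2
  have hE : (Nat.card E : ℂ) ≠ 0 := Nat.cast_ne_zero.mpr Nat.card_pos.ne'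
  field_simp at h2
  have : ((n * n * 2 : ℕ) : ℂ) = (Nat.card E : ℕ) := by
    push_cast
    linear_combination -h2
  exact_mod_cast this

theorem isIrr_of_good [Finite E] {G : Type u} [Group G] [Finite G] (i : E →* G)
    (hi : Function.Injective i) {f : G → ℂ} {c : ℕ} (hf : Good f (i z) c)
    (hc : c * c * 2 = Nat.card E) : IsIrrCharacter G f := by
  refine CharDeep.Ext.isIrrCharacter_of_restrict i.range hf.1 ?_
  have hg : Good (fun e => f (i e)) z c :=
    ⟨CharCore.isCharacter_comp hf.1 i, (congrArg f (map_one i)).trans hf.2.1, hf.2.2⟩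
  let e : E ≃* i.range := MonoidHom.ofInjective hi
  have := CharCore.isIrrCharacter_comp_surjective (h.good_irr hg hc) e.symm.toMonoidHom
    e.symm.surjective
  convert this using 1
  funext y
  exact congrArg f (congrArg Subtype.val (e.apply_symm_apply y)).symm

end XS

/-- A character extends across a cyclic quotient if it is invariant. -/
theorem extend_step {X Y : Type u} [Group X] [Group Y] [Finite Y] (i : X →* Y)
    (hi : Function.Injective i) [hn : i.range.Normal] (hcyc : IsCyclic (Y ⧸ i.range))
    {f : X → ℂ} (hf : IsIrrCharacter X f)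
    (hinv : ∀ (y : Y) (x x' : X), i x' = y * i x * y⁻¹ → f x' = f x) :
    ∃ F : Y → ℂ, IsIrrCharacter Y F ∧ ∀ x, F (i x) = f x := by
  have : Finite X := Finite.of_injective i hi
  have := Fintype.ofFinite Y
  have := Fintype.ofFinite i.range
  let e : X ≃* i.range := MonoidHom.ofInjective hi
  have hθ := CharCore.isIrrCharacter_comp_surjective hf e.symm.toMonoidHom e.symm.surjective
  obtain ⟨F, hF, hFe⟩ := CharB.exists_extension_of_cyclic i.range hcyc hθ fun y n => by
    refine hinv y (e.symm n) _ ?_
    have h1 : ∀ m : i.range, i (e.symm m) = m := fun m => congrArg Subtype.val (e.apply_symm_apply m)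
    exact (h1 _).trans (by rw [h1])
  exact ⟨F, hF, fun x => (hFe (e x)).trans (congrArg f (e.symm_apply_apply x))⟩

/-- The extension property: some character of `E ⋊ P` is good at `z`. -/
def HasExt {E P : Type u} [Group E] [Group P] (z : E) (a : P →* MulAut E) : Prop :=
  ∃ (f : E ⋊[a] P → ℂ) (c : ℕ), c * c * 2 = Nat.card E ∧ Good f (SemidirectProduct.inl z) c

theorem HasExt.comp {E P Q : Type u} [Group E] [Group P] [Group Q] {z : E} {a : P →* MulAut E}
    (h : HasExt z a) (g : Q →* P) {b : Q →* MulAut E} (hb : b = a.comp g) : HasExt z b := by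
  subst hb
  obtain ⟨f, c, hc, hf, h1, hz⟩ := h
  let F : E ⋊[a.comp g] Q →* E ⋊[a] P :=
    SemidirectProduct.map (MonoidHom.id E) g fun _ => rfl
  refine ⟨fun x => f (F x), c, hc, CharCore.isCharacter_comp hf F, ?_, ?_⟩
  · show f (F 1) = _
    rw [map_one]; exact h1
  · show f (F _) = _
    rw [SemidirectProduct.map_inl]; exact hz

end Cfsg.Agent.XSExt
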