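import Cfsg.Agent.XSExt.Basic
import Cfsg.Agent.BlkChar.CyclicAction

/-!
# Extensions across a two-group normalising a cyclic group of odd prime order

`φ` is an automorphism of odd prime order fixing only the centre; the extension is pinned down
on the centraliser of `φ` by the value of the canonical extension at `φ`.
-/

set_option autoImplicit false

open Cfsg SemidirectProduct

namespace Cfsg.Agent.XSExt

universe u

variable {E : Type u} [Group E] {z : E} (φ : MulAut E)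

/-- The acting group. -/
abbrev MS (Q : Subgroup (MulAut E)) : Subgroup (MulAut E) := Subgroup.zpowers φ ⊔ Q

/-- The semidirect product with the acting group. -/
abbrev Big (Q : Subgroup (MulAut E)) : Type u := E ⋊[(MS φ Q).subtype] ↥(MS φ Q)

/-- The element `φ`. -/
def sgen (Q : Subgroup (MulAut E)) : Big φ Q :=
  inr ⟨φ, Subgroup.mem_sup_left (Subgroup.mem_zpowers φ)⟩

/-- An element of `Q`. -/
def qel (Q : Subgroup (MulAut E)) (q : MulAut E) (hq : q ∈ Q) : Big φ Q :=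
  inr ⟨q, Subgroup.mem_sup_right hq⟩

/-- The part lying over `Q`. -/
def base (Q : Subgroup (MulAut E)) : Subgroup (Big φ Q) :=
  Subgroup.comap rightHom (Q.subgroupOf (MS φ Q))

variable {φ}
variable {Q : Subgroup (MulAut E)}

instance [Finite E] : Finite (Big φ Q) := Finite.of_equiv _ SemidirectProduct.equivProd.symm

theorem mem_base {x : Big φ Q} : x ∈ base φ Q ↔ (x.right : MulAut E) ∈ Q := Iff.rfl

theorem mem_MS (hQφ : ∀ q ∈ Q, q * φ = φ * q) {m : MulAut E} (hm : m ∈ MS φ Q) :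
    ∃ (i : ℤ) (q : MulAut E), q ∈ Q ∧ m = φ ^ i * q := by
  have hc : ∀ (i : ℤ), ∀ q ∈ Q, q * φ ^ i = φ ^ i * q := fun i q hq =>
    (Commute.zpow_right (hQφ q hq) i).eq
  let T : Subgroup (MulAut E) :=
    { carrier := {m | ∃ (i : ℤ) (q : MulAut E), q ∈ Q ∧ m = φ ^ i * q}
      one_mem' := ⟨0, 1, Q.one_mem, by simp⟩
      mul_mem' := by
        rintro _ _ ⟨i, q, hq, rfl⟩ ⟨j, r, hr, rfl⟩
        refine ⟨i + j, q * r, Q.mul_mem hq hr, ?_⟩
        rw [zpow_add, mul_assoc, ← mul_assoc q, hc j q hq]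
        simp only [mul_assoc]
      inv_mem' := by
        rintro _ ⟨i, q, hq, rfl⟩
        refine ⟨-i, q⁻¹, Q.inv_mem hq, ?_⟩
        rw [mul_inv_rev, zpow_neg, ← zpow_neg, hc (-i) q⁻¹ (Q.inv_mem hq)] }
  have hle : MS φ Q ≤ T := sup_le
    (Subgroup.zpowers_le.mpr ⟨1, 1, Q.one_mem, by simp⟩) fun q hq => ⟨0, q, hq, by simp⟩
  exact hle hm

theorem decomp (hQφ : ∀ q ∈ Q, q * φ = φ * q) (x : Big φ Q) :
    ∃ (g : Big φ Q) (i : ℤ), g ∈ base φ Q ∧ x = g * sgen φ Q ^ i := by
  obtain ⟨i, q, hq, hm⟩ := mem_MS hQφ x.right.2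
  refine ⟨x * (sgen φ Q ^ i)⁻¹, i, ?_, by group⟩
  rw [mem_base]
  simp only [mul_right, inv_right, sgen, ← map_zpow, right_inr, Subgroup.coe_mul,
    Subgroup.coe_inv, SubgroupClass.coe_zpow]
  rw [hm, ← (Commute.zpow_right (hQφ q hq) i).eq, mul_inv_cancel_right]
  exact hq

theorem base_normal (hQφ : ∀ q ∈ Q, q * φ = φ * q) : (base φ Q).Normal := by
  refine ⟨fun n hn x => ?_⟩
  rw [mem_base] at hn ⊢
  obtain ⟨i, q, hq, hm⟩ := mem_MS hQφ x.right.2
  simp only [mul_right, inv_right, Subgroup.coe_mul, Subgroup.coe_inv]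
  rw [hm, show φ ^ i * q * n.right * (φ ^ i * q)⁻¹ = φ ^ i * (q * n.right * q⁻¹) * (φ ^ i)⁻¹ by
    group]
  have hq' := Q.mul_mem (Q.mul_mem hq hn) (Q.inv_mem hq)
  rw [← (Commute.zpow_right (hQφ _ hq') i).eq, mul_inv_cancel_right]
  exact hq'

variable (h : XS E z)
include h

theorem inl_central (x : Big φ Q) : inl z * x = x * inl z := by
  refine SemidirectProduct.ext ?_ ?_
  · simp only [mul_left, left_inl, right_inl, map_one, MulAut.one_apply]
    rw [h.central]
    congr 1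
    exact (h.aut_z _).symm
  · simp

variable [Finite E] (hr : (orderOf φ).Prime) (hr2 : orderOf φ ≠ 2)
  (hfix : ∀ e, φ e = e → e = 1 ∨ e = z)

section Fixed

variable (hQ : IsPGroup 2 Q) (hQφ : ∀ q ∈ Q, q * φ = φ * q)
include hQ hQφ

theorem isPGroup_base : IsPGroup 2 (base φ Q) := by
  refine IsPGroup.comap_of_ker_isPGroup ?_ rightHom ?_
  · exact IsPGroup.of_equiv hQ (Subgroup.subgroupOfEquivOfLe le_sup_right).symm
  · rw [← range_inl_eq_ker_rightHom]
    exact IsPGroup.of_surjective h.isPGroup inl.rangeRestrict (MonoidHom.rangeRestrict_surjective _)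

omit h [Finite E] hQ hQφ in
theorem card_zpowers_sgen : Nat.card (Subgroup.zpowers (sgen φ Q)) = orderOf φ := by
  rw [Nat.card_zpowers, sgen, orderOf_injective _ inr_injective, ← Subgroup.orderOf_coe]

include hr hr2 in
theorem coprime_card :
    (Nat.card (base φ Q)).Coprime (Nat.card (Subgroup.zpowers (sgen φ Q))) := by
  obtain ⟨k, hk⟩ := IsPGroup.iff_card.mp (isPGroup_base h hQ hQφ)
  rw [hk, card_zpowers_sgen]
  exact Nat.Coprime.pow_left _ ((Nat.coprime_primes Nat.prime_two hr).mpr hr2.symm)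

omit h [Finite E] hQ in
include hQφ in
theorem base_sup : base φ Q ⊔ Subgroup.zpowers (sgen φ Q) = ⊤ := by
  refine eq_top_iff.mpr fun x _ => ?_
  obtain ⟨g, i, hg, rfl⟩ := decomp hQφ x
  exact Subgroup.mul_mem_sup hg (Subgroup.zpow_mem_zpowers _ i)

omit [Finite E] hQ in
include hfix in
theorem mem_fixed {x : Big φ Q} :
    x ∈ base φ Q ⊓ Subgroup.centralizer (Subgroup.zpowers (sgen φ Q) : Set (Big φ Q)) ↔
      (x.right : MulAut E) ∈ Q ∧ (x.left = 1 ∨ x.left = z) := by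
  constructor
  · rintro ⟨hx, hc⟩
    refine ⟨hx, hfix _ ?_⟩
    have := congrArg SemidirectProduct.left
      (Subgroup.mem_centralizer_iff.mp hc _ (Subgroup.mem_zpowers _))
    simpa [sgen] using this
  · rintro ⟨hx, he⟩
    refine ⟨hx, Subgroup.mem_centralizer_iff.mpr fun y hy => ?_⟩
    obtain ⟨i, rfl⟩ := Subgroup.mem_zpowers_iff.mp hy
    refine (Commute.zpow_left ?_ i).eq
    refine SemidirectProduct.ext ?_ ?_
    · rcases he with e | e <;> simp [sgen, e, h.aut_z]
    · exact Subtype.ext (by simpa [sgen] using (hQφ _ hx).symm)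

end Fixed

/-- A canonical character of `E ⋊ (⟨φ⟩ Q)`. -/
structure Nice (φ : MulAut E) (z : E) (Q : Subgroup (MulAut E)) (c : ℕ)
    (ψ : Big φ Q → ℂ) : Prop where
  good : Good ψ (inl z) c
  det : CharDeep.Ext.detHom ψ (sgen φ Q) = 1
  val : ∀ (q : MulAut E) (hq : q ∈ Q), ψ (qel φ Q q hq * sgen φ Q) = ψ (sgen φ Q)

section Values

variable (hQ : IsPGroup 2 Q) (hQφ : ∀ q ∈ Q, q * φ = φ * q)
variable {c : ℕ} (hc : c * c * 2 = Nat.card E) {ψ : Big φ Q → ℂ} (hψ : Good ψ (inl z) c)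
  (hdet : CharDeep.Ext.detHom ψ (sgen φ Q) = 1)
include hr hr2 hfix hQ hQφ hc hψ hdet

/-- The values at `C φ`, and their independence of the generator. -/
theorem value :
    ∃ (C : Subgroup (Big φ Q)) (β : IrrCharacter C) (ε : ℤ), (ε = 1 ∨ ε = -1) ∧
      (∀ x : Big φ Q, x ∈ C ↔ (x.right : MulAut E) ∈ Q ∧ (x.left = 1 ∨ x.left = z)) ∧
      (∀ x : C, ψ ((x : Big φ Q) * sgen φ Q) = (ε : ℂ) * (β : C → ℂ) x) ∧
      ∀ (x : C) (k : ℕ), k.Coprime (orderOf φ) →
        ψ ((x : Big φ Q) * sgen φ Q ^ k) = ψ ((x : Big φ Q) * sgen φ Q) := by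
  classical
  have := Fintype.ofFinite (Big φ Q)
  have hGn := base_normal (φ := φ) hQφ
  have hcop := coprime_card h hr hr2 hQ hQφ
  have htop := base_sup hQφ
  set G := base φ Q
  set S := Subgroup.zpowers (sgen φ Q)
  have := Fintype.ofFinite G
  let C : Subgroup (Big φ Q) := G ⊓ Subgroup.centralizer (S : Set (Big φ Q))
  have := Fintype.ofFinite C
  have hirr : IsIrrCharacter (Big φ Q) ψ := h.isIrr_of_good inl inl_injective hψ hc
  have hres : IsIrrCharacter G (fun g : G => ψ g) := by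
    let i : E →* G := (inl : E →* Big φ Q).codRestrict G fun e => by
      show ((inl e : Big φ Q).right : MulAut E) ∈ Q
      simp
    refine h.isIrr_of_good i (fun a b e => inl_injective (congrArg Subtype.val e))
      ⟨CharCore.isCharacter_restrict hψ.1 G, hψ.2.1, hψ.2.2⟩ hc
  have hdo : (detOrder ψ).Coprime (Nat.card S) := by
    refine Nat.Coprime.coprime_dvd_left ?_ hcop
    rw [CharDeep.Ext.detOrder_eq]
    refine orderOf_dvd_of_pow_eq_one (MonoidHom.ext fun y => ?_)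
    obtain ⟨g, i, hg, rfl⟩ := decomp hQφ y
    rw [MonoidHom.pow_apply, map_mul, map_zpow, hdet, one_zpow, mul_one, ← map_pow,
      MonoidHom.one_apply, ← map_one (CharDeep.Ext.detHom ψ)]
    congr 1
    exact congrArg Subtype.val (pow_card_eq_one' (G := G) (x := ⟨g, hg⟩))
  have hCS : ∀ x ∈ C, ∀ y ∈ S, x * y = y * x := fun x hx y hy =>
    (Subgroup.mem_centralizer_iff.mp hx.2 y hy).symm
  have hSab : ∀ a ∈ S, ∀ b ∈ S, a * b = b * a := fun a ha b hb =>
    congrArg Subtype.val (mul_comm' (⟨a, ha⟩ : S) ⟨b, hb⟩)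
  have hCx : C = G ⊓ Subgroup.centralizer ({sgen φ Q} : Set (Big φ Q)) := by
    show G ⊓ _ = _
    congr 1
    refine le_antisymm (Subgroup.centralizer_le (by simp [S])) fun y hy => ?_
    rw [Subgroup.mem_centralizer_iff]
    intro w hw
    obtain ⟨i, rfl⟩ := Subgroup.mem_zpowers_iff.mp hw
    exact (Commute.zpow_left (Subgroup.mem_centralizer_iff.mp hy _ rfl) i).eq
  obtain ⟨β, ε, hε, hβ⟩ := BlkChar.exists_value G S hcop htop C inf_le_left hCS hSab hirr hres hdo
    ⟨sgen φ Q, Subgroup.mem_zpowers _⟩ hCx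
  refine ⟨C, β, ε, hε, fun x => mem_fixed h hfix hQφ, hβ, fun x k hk => ?_⟩
  have := BlkChar.apply_pow G S hcop htop C inf_le_left hCS hirr hres hdo x
    ⟨sgen φ Q, Subgroup.mem_zpowers _⟩ (k := k)
    (by rwa [card_zpowers_sgen])
  simpa using this
where
  mul_comm' {G : Type u} [Group G] {g : G} (a b : Subgroup.zpowers g) : a * b = b * a := by
    obtain ⟨i, hi⟩ := Subgroup.mem_zpowers_iff.mp a.2
    obtain ⟨j, hj⟩ := Subgroup.mem_zpowers_iff.mp b.2
    exact Subtype.ext (by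
      simp only [Subgroup.coe_mul, ← hi, ← hj, ← zpow_add, add_comm])

theorem apply_sgen_ne_zero : ψ (sgen φ Q) ≠ 0 := by
  obtain ⟨C, β, ε, hε, -, hβ, -⟩ := value h hr hr2 hfix hQ hQφ hc hψ hdet
  have := Fintype.ofFinite C
  have e := hβ 1
  rw [OneMemClass.coe_one, one_mul] at e
  rw [e]
  refine mul_ne_zero ?_ (CharCore.irr_apply_one_ne_zero β)
  rcases hε with rfl | rfl <;> norm_num

end Values

end Cfsg.Agent.XSExt
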