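import Cfsg.Agent.XSExt.Basic
import Mathlib.Algebra.Module.ZMod
import Mathlib.RepresentationTheory.Basic

/-!
# The quotient by the centre as a symplectic space, and lifting of isometries
-/

set_option autoImplicit false

open Cfsg

namespace Cfsg.Agent.XSExt

universe u

variable {E : Type u} [Group E] [Finite E] {z : E} (h : XS E z)

/-- The vector space `E / {1, z}`. -/
abbrev Sp (E : Type u) [Group E] : Type u := Additive (E ⧸ Subgroup.center E)

/-- The projection. -/
def pr (x : E) : Sp E := Additive.ofMul (QuotientGroup.mk x)

omit [Finite E] in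
theorem pr_mul (x y : E) : pr (x * y) = (Additive.ofMul
    ((QuotientGroup.mk x : E ⧸ Subgroup.center E) * QuotientGroup.mk y)) := rfl

omit [Finite E] in
theorem pr_surjective : Function.Surjective (pr (E := E)) := fun v => by
  obtain ⟨x, hx⟩ := QuotientGroup.mk_surjective (Additive.toMul v)
  exact ⟨x, congrArg Additive.ofMul hx⟩

include h

omit [Finite E] in
theorem XS.mem_center {x : E} : x ∈ Subgroup.center E ↔ x = 1 ∨ x = z := by
  rw [Subgroup.mem_center_iff]
  refine ⟨fun hx => h.nondeg x fun y => (hx y).symm, ?_⟩
  rintro (rfl | rfl) y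
  · simp
  · exact (h.central y).symm

omit [Finite E] in
theorem XS.comm_mem (x y : E) : (y * x)⁻¹ * (x * y) ∈ Subgroup.center E := by
  rw [h.mem_center]
  rcases h.comm x y with e | e
  · exact Or.inl (by rw [e, inv_mul_cancel])
  · exact Or.inr (by rw [e, inv_mul_cancel_left])

/-- The quotient is commutative. -/
@[reducible] def XS.addCommGroup : AddCommGroup (Sp E) :=
  { (inferInstance : AddGroup (Sp E)) with
    add_comm := fun a b => by
      obtain ⟨x, rfl⟩ := pr_surjective a
      obtain ⟨y, rfl⟩ := pr_surjective b
      refine congrArg Additive.ofMul ?_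
      show (QuotientGroup.mk (x * y) : E ⧸ Subgroup.center E) = QuotientGroup.mk (y * x)
      exact (QuotientGroup.eq.mpr (h.comm_mem x y)).symm }

omit [Finite E] in
theorem XS.two_nsmul (v : Sp E) : 2 • v = 0 := by
  obtain ⟨x, rfl⟩ := pr_surjective v
  refine congrArg Additive.ofMul ?_
  show (QuotientGroup.mk x : E ⧸ Subgroup.center E) ^ 2 = 1
  rw [← QuotientGroup.mk_pow, QuotientGroup.eq_one_iff, h.mem_center, pow_two]
  exact h.sqMem x

omit h

/-- The structure of a space over the field with two elements. -/
@[reducible] def XS.module (h : XS E z) :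
    letI := h.addCommGroup
    Module (ZMod 2) (Sp E) :=
  letI := h.addCommGroup
  AddCommGroup.zmodModule fun v => h.two_nsmul v

/-- The map induced by an automorphism. -/
def indMap (α : MulAut E) : Sp E →+ Sp E :=
  MonoidHom.toAdditive (QuotientGroup.map (Subgroup.center E) (Subgroup.center E) α.toMonoidHom
    fun x hx => by
      show α x ∈ Subgroup.center E
      rw [Subgroup.mem_center_iff] at hx ⊢
      intro g
      obtain ⟨w, rfl⟩ := α.surjective g
      rw [← map_mul, ← map_mul, hx w])

omit [Finite E] in
@[simp] theorem indMap_pr (α : MulAut E) (x : E) : indMap α (pr x) = pr (α x) := rfl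

omit [Finite E] in
theorem indMap_mul (α β : MulAut E) (v : Sp E) : indMap (α * β) v = indMap α (indMap β v) := by
  obtain ⟨x, rfl⟩ := pr_surjective v
  rfl

omit [Finite E] in
theorem indMap_one (v : Sp E) : indMap (1 : MulAut E) v = v := by
  obtain ⟨x, rfl⟩ := pr_surjective v
  rfl

omit [Finite E] in
theorem pr_eq_zero (h : XS E z) {x : E} : pr x = 0 ↔ x = 1 ∨ x = z := by
  rw [← h.mem_center, ← QuotientGroup.eq_one_iff]
  rfl

omit [Finite E] in
theorem pr_eq (h : XS E z) {x y : E} : pr x = pr y ↔ y = x ∨ y = x * z := by
  constructor
  · intro e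
    have h1 : x⁻¹ * y ∈ Subgroup.center E := QuotientGroup.eq.mp (congrArg Additive.toMul e :)
    rcases h.mem_center.mp h1 with e | e
    · exact Or.inl (inv_mul_eq_one.mp e).symm
    · exact Or.inr (inv_mul_eq_iff_eq_mul.mp e)
  · intro e
    refine congrArg Additive.ofMul (QuotientGroup.eq.mpr (h.mem_center.mpr ?_))
    rcases e with rfl | rfl <;> simp

/-- The commutator form on elements. -/
noncomputable def cform (x y : E) : ZMod 2 := by
  classical exact if x * y = y * x then 0 else 1

omit [Finite E] in
theorem cform_eq_zero (x y : E) : cform x y = 0 ↔ x * y = y * x := by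
  unfold cform
  split_ifs with e
  · exact iff_of_true rfl e
  · exact iff_of_false one_ne_zero e

omit [Finite E] in
theorem cform_comm (x y : E) : cform x y = cform y x := by
  unfold cform
  split_ifs with e e' <;> first | rfl | exact absurd e.symm e' | skip
  exact absurd (by assumption : y * x = x * y).symm (by assumption)

omit [Finite E] in
theorem cform_mul_right (h : XS E z) (x y w : E) : cform x (y * w) = cform x y + cform x w := by
  classical
  have hne : ∀ a : E, a * z ≠ a := fun a e => h.ne (mul_eq_left.mp e)
  rcases h.comm x y with e1 | e1 <;> rcases h.comm x w with e2 | e2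
  · rw [(cform_eq_zero x y).mpr e1, (cform_eq_zero x w).mpr e2, add_zero, cform_eq_zero,
      ← mul_assoc, e1, mul_assoc, e2, mul_assoc]
  · have h3 : x * (y * w) = y * w * x * z := by rw [← mul_assoc, e1, mul_assoc, e2]; group
    rw [(cform_eq_zero x y).mpr e1, zero_add, cform, if_neg (by rw [h3]; exact hne _),
      cform, if_neg (by rw [e2]; exact hne _)]
  · have h3 : x * (y * w) = y * w * x * z := by
      rw [← mul_assoc, e1, mul_assoc (y * x), h.central, ← mul_assoc, mul_assoc y, e2]; group
    rw [(cform_eq_zero x w).mpr e2, add_zero, cform, if_neg (by rw [h3]; exact hne _),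
      cform, if_neg (by rw [e1]; exact hne _)]
  · have h3 : x * (y * w) = y * w * x := by
      rw [← mul_assoc, e1, mul_assoc (y * x), h.central, ← mul_assoc, mul_assoc y, e2]
      simp only [mul_assoc, h.sq, mul_one]
    rw [(cform_eq_zero x (y * w)).mpr h3, cform, if_neg (by rw [e1]; exact hne _),
      cform, if_neg (by rw [e2]; exact hne _)]
    decide

omit [Finite E] in
theorem cform_congr (h : XS E z) {x x' y y' : E} (hx : pr x = pr x') (hy : pr y = pr y') :
    cform x y = cform x' y' := by
  have hz : ∀ a, cform a z = 0 := fun a => (cform_eq_zero a z).mpr (h.central a).symm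
  have hr : ∀ a b b' : E, pr b = pr b' → cform a b = cform a b' := by
    intro a b b' e
    rcases (pr_eq h).mp e with rfl | rfl
    · rfl
    · rw [cform_mul_right h, hz, add_zero]
  rw [hr x y y' hy, cform_comm, hr y' x x' hx, cform_comm]

/-- A section of the projection. -/
noncomputable def sec (v : Sp E) : E := Function.surjInv (pr_surjective (E := E)) v

omit [Finite E] in
theorem pr_sec (v : Sp E) : pr (sec v) = v := Function.surjInv_eq _ v

/-- The commutator form. -/
noncomputable def XS.form (h : XS E z) :
    letI := h.addCommGroup
    letI := h.module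
    Sp E →ₗ[ZMod 2] Sp E →ₗ[ZMod 2] ZMod 2 :=
  letI := h.addCommGroup
  letI := h.module
  AddMonoidHom.toZModLinearMap 2
    { toFun := fun v => AddMonoidHom.toZModLinearMap 2
        (AddMonoidHom.mk' (fun w => cform (sec v) (sec w))
          fun a b => by
            rw [← cform_mul_right h]
            refine cform_congr h rfl ?_
            rw [pr_sec, pr_mul]
            exact congrArg₂ (fun s t : Sp E => s + t) (pr_sec a).symm
              (pr_sec b).symm)
      map_zero' := LinearMap.ext fun w => by
        show cform _ _ = 0
        rw [cform_congr h (y := sec w) (x' := (1 : E))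
          ((pr_sec (0 : Sp E)).trans ((pr_eq_zero h).mpr (Or.inl rfl)).symm) rfl]
        exact (cform_eq_zero _ _).mpr (by simp)
      map_add' := fun a b => LinearMap.ext fun w => by
        show cform _ _ = cform _ _ + cform _ _
        rw [cform_comm, cform_comm (sec a),
          cform_comm (sec b), ← cform_mul_right h]
        refine cform_congr h rfl ?_
        rw [pr_sec, pr_mul]
        exact congrArg₂ (fun s t : Sp E => s + t) (pr_sec a).symm
          (pr_sec b).symm }

theorem XS.form_pr (h : XS E z) (x y : E) :
    letI := h.addCommGroup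
    letI := h.module
    h.form (pr x) (pr y) = cform x y :=
  cform_congr h (pr_sec _) (pr_sec _)

/-- A product over all elements of an odd group kills invariant homomorphisms into the centre. -/
theorem invariant_hom_trivial (h : XS E z) (K : Subgroup (MulAut E)) (hodd : Odd (Nat.card K))
    (hfix : ∀ e, (∀ k ∈ K, k e = e) → e = 1 ∨ e = z) (f : E →* E)
    (hf : ∀ x, f x = 1 ∨ f x = z) (hz : f z = 1) (hinv : ∀ k ∈ K, ∀ x, f (k x) = f x) (x : E) :
    f x = 1 := by
  classical
  letI := h.addCommGroup
  have := Fintype.ofFinite K
  let L : List E := (Finset.univ : Finset K).toList.map fun k : K => (k : MulAut E) x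
  have hpr : ∀ l : List E, pr l.prod = (l.map pr).sum := by
    intro l
    induction l with
    | nil => rfl
    | cons a l ih => rw [List.prod_cons, List.map_cons, List.sum_cons, ← ih]; rfl
  have hL : pr L.prod = ∑ k : K, pr ((k : MulAut E) x) := by
    rw [hpr, Finset.sum_eq_multiset_sum, List.map_map, ← Finset.coe_toList, Multiset.map_coe,
      Multiset.sum_coe]
    rfl
  have hmem : L.prod = 1 ∨ L.prod = z := by
    have hsum : ∀ k ∈ K, indMap k (∑ j : K, pr ((j : MulAut E) x)) = ∑ j : K, pr ((j : MulAut E) x) := by
      intro k hk
      rw [map_sum]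
      exact Fintype.sum_equiv (Equiv.mulLeft (⟨k, hk⟩ : K)) _ _ fun j => rfl
    rw [← hL] at hsum
    have hk : ∀ k ∈ K, ∀ g : E, pr (k g) = pr g → k g = g := by
      intro k hk g hg
      rcases (pr_eq h).mp hg with e | e
      · exact e.symm
      · exfalso
        have hit : ∀ n : ℕ, (k ^ n) g = if Even n then g else k g := by
          intro n
          induction n with
          | zero => rfl
          | succ n ih =>
            rw [pow_succ', MulAut.mul_apply, ih]
            by_cases hn : Even n
            · rw [if_pos hn, if_neg (by simp [Nat.even_add_one, hn])]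
            · rw [if_neg hn, if_pos (by simp [Nat.even_add_one, hn])]
              have : k g = g * z := by
                have := congrArg (fun w => w * z) e
                simp only [mul_assoc, h.sq, mul_one] at this
                exact this.symm
              rw [this, map_mul, this, h.aut_z, mul_assoc, h.sq, mul_one]
        have hone : (k ^ Nat.card K) g = g := by
          rw [show k ^ Nat.card K = 1 from congrArg Subtype.val (pow_card_eq_one' (x := (⟨k, hk⟩ : K)))]
          rfl
        rw [hit, if_neg (Nat.not_even_iff_odd.mpr hodd)] at hone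
        exact h.ne (mul_eq_left.mp ((congrArg (fun w => w * z) hone).symm.trans e.symm))
    exact hfix _ fun k hk' => hk k hk' _ (by rw [← indMap_pr]; exact hsum k hk')
  have h2 : f L.prod = f x ^ Nat.card K := by
    rw [map_list_prod, List.map_map]
    rw [List.prod_eq_pow_card _ (f x) (by
      intro y hy
      simp only [List.mem_map, Function.comp_apply] at hy
      obtain ⟨k, -, rfl⟩ := hy
      exact hinv k k.2 x)]
    simp [Nat.card_eq_fintype_card]
  obtain ⟨m, hm⟩ := hodd
  have h3 : f x ^ Nat.card K = f x := by
    rw [hm, pow_succ, pow_mul, pow_two]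
    rcases hf x with e | e <;> simp [e, h.sq]
  rcases hmem with e | e <;> rw [e] at h2
  · rw [← h3, ← h2, map_one]
  · rw [← h3, ← h2, hz]

end Cfsg.Agent.XSExt
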