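import Cfsg.Agent.XSExt.Basic

/-!
# Extension across a subgroup of index at most two
-/

set_option autoImplicit false

open Cfsg SemidirectProduct

namespace Cfsg.Agent.XSExt

universe u

variable {E : Type u} [Group E] [Finite E] {z : E}

/-- Conjugation of `E ⋊ P₁` by an automorphism normalising `P₁`. -/
def conjBy (P₁ : Subgroup (MulAut E)) (g : MulAut E)
    (hg : ∀ y ∈ P₁, g * y * g⁻¹ ∈ P₁) : E ⋊[P₁.subtype] P₁ →* E ⋊[P₁.subtype] P₁ :=
  SemidirectProduct.map g.toMonoidHom
    (((MulAut.conj g).toMonoidHom.comp P₁.subtype).codRestrict P₁ fun y => hg y y.2)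
    fun y => by ext e; simp

omit [Finite E] in
@[simp] theorem conjBy_left (P₁ : Subgroup (MulAut E)) (g : MulAut E) (hg) (x : E ⋊[P₁.subtype] P₁) :
    (conjBy P₁ g hg x).left = g x.left := rfl

omit [Finite E] in
@[simp] theorem conjBy_right (P₁ : Subgroup (MulAut E)) (g : MulAut E) (hg)
    (x : E ⋊[P₁.subtype] P₁) : ((conjBy P₁ g hg x).right : MulAut E) = g * x.right * g⁻¹ := rfl

theorem hasExt_of_index_two (h : XS E z) {P P₁ : Subgroup (MulAut E)} (hle : P₁ ≤ P)
    (hmul : ∀ a ∈ P, ∀ b ∈ P, a ∉ P₁ → b ∉ P₁ → a * b ∈ P₁) {c : ℕ}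
    (hc : c * c * 2 = Nat.card E) {χ : E ⋊[P₁.subtype] P₁ → ℂ} (hχ : Good χ (inl z) c)
    (hinv : ∀ g ∈ P, g ∉ P₁ → ∀ hg : ∀ y ∈ P₁, g * y * g⁻¹ ∈ P₁,
      ∀ x, χ (conjBy P₁ g hg x) = χ x) : HasExt z P.subtype := by
  classical
  let l : ↥P →* ℂˣ :=
    { toFun := fun m => if (m : MulAut E) ∈ P₁ then 1 else -1
      map_one' := if_pos P₁.one_mem
      map_mul' := fun a b => by
        simp only [Subgroup.coe_mul]
        by_cases ha : (a : MulAut E) ∈ P₁
        · simp [ha, Subgroup.mul_mem_cancel_left _ ha]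
        by_cases hb : (b : MulAut E) ∈ P₁
        · simp [ha, hb, Subgroup.mul_mem_cancel_right _ hb]
        simp [ha, hb, hmul _ a.2 _ b.2 ha hb] }
  have hker : ∀ m : ↥P, l m = 1 ↔ (m : MulAut E) ∈ P₁ := by
    intro m
    refine ⟨fun hm => ?_, fun hm => if_pos hm⟩
    by_contra hh
    rw [show l m = -1 from if_neg hh] at hm
    have := congrArg Units.val hm
    norm_num at this
  let i : E ⋊[P₁.subtype] P₁ →* E ⋊[P.subtype] P :=
    SemidirectProduct.map (MonoidHom.id E) (Subgroup.inclusion hle) fun _ => rfl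
  have hil : ∀ x, (i x).left = x.left := fun _ => rfl
  have hir : ∀ x, ((i x).right : MulAut E) = x.right := fun _ => rfl
  have hinl : ∀ e : E, i (inl e) = inl e := fun e => SemidirectProduct.ext rfl rfl
  have hi : Function.Injective i := fun a b e =>
    SemidirectProduct.ext (congrArg SemidirectProduct.left e :)
      (Subgroup.inclusion_injective hle (congrArg SemidirectProduct.right e :))
  let gg : E ⋊[P.subtype] P →* ℂˣ := l.comp rightHom
  have hrange : i.range = gg.ker := by
    ext y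
    exact ⟨fun ⟨x, hx⟩ => hx ▸ (hker _).mpr x.right.2,
      fun hy => ⟨⟨y.left, ⟨_, (hker _).mp hy⟩⟩, SemidirectProduct.ext rfl rfl⟩⟩
  have hn : i.range.Normal := by rw [hrange]; infer_instance
  have : Finite (E ⋊[P.subtype] P) := Finite.of_equiv _ SemidirectProduct.equivProd.symm
  have : Finite gg.range := Finite.of_surjective _ gg.rangeRestrict_surjective
  have h1 : IsCyclic gg.range :=
    isCyclic_of_injective_ringHom ((Units.coeHom ℂ).comp gg.range.subtype)
      (Units.val_injective.comp Subtype.val_injective)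
  have hcyc : IsCyclic ((E ⋊[P.subtype] P) ⧸ i.range) :=
    ((QuotientGroup.quotientMulEquivOfEq hrange).trans
      (QuotientGroup.quotientKerEquivRange gg)).isCyclic.mpr h1
  have : Finite (E ⋊[P₁.subtype] P₁) := Finite.of_injective i hi
  obtain ⟨F, hF, hFi⟩ := extend_step i hi hcyc (h.isIrr_of_good inl inl_injective hχ hc)
    fun y x x' e => by
    by_cases hy : (y.right : MulAut E) ∈ P₁
    · let w : E ⋊[P₁.subtype] P₁ := ⟨y.left, ⟨_, hy⟩⟩
      have hw : i w = y := SemidirectProduct.ext rfl rfl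
      have hx : x' = w * x * w⁻¹ := hi (by rw [map_mul, map_mul, map_inv, hw, e])
      rw [hx]
      exact CharCore.IsCharacter.isClassFunction hχ.1 _ _
    · have hconj : ∀ v ∈ P₁, (y.right : MulAut E) * v * (y.right : MulAut E)⁻¹ ∈ P₁ := by
        intro v hv
        refine hmul _ (P.mul_mem y.right.2 (hle hv)) _ (P.inv_mem y.right.2) ?_ (by simpa using hy)
        exact fun hh => hy (by simpa using P₁.mul_mem hh (P₁.inv_mem hv))
      let w : E ⋊[P₁.subtype] P₁ := inl y.left
      have hx : x' = w * conjBy P₁ _ hconj x * w⁻¹ := by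
        refine hi ?_
        rw [map_mul, map_mul, map_inv, e, hinl]
        have hc' : i (conjBy P₁ _ hconj x) = inr y.right * i x * (inr y.right)⁻¹ :=
          SemidirectProduct.ext (by simp [hil]) (Subtype.ext (by simp [hir]))
        rw [hc']
        conv_lhs => rw [← inl_left_mul_inr_right y]
        group
      rw [hx]
      exact (CharCore.IsCharacter.isClassFunction hχ.1 _ _).trans (hinv _ y.right.2 hy hconj x)
  refine ⟨F, c, hc, CharCore.IsIrrCharacter.isCharacter hF, ?_, ?_⟩
  · rw [← map_one i, hFi]; exact hχ.2.1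
  · rw [← hinl, hFi]; exact hχ.2.2

end Cfsg.Agent.XSExt
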